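import Cfsg.Agent.StGen.Model
import Cfsg.Agent.StClassical.Embed

/-!
# Building models from root elements and transporting Steinberg characters
-/

set_option autoImplicit false
set_option linter.unusedSectionVars false
set_option linter.style.haveILetI false

namespace CfsgLib.StGen

open Matrix CfsgLib.Pronormal CfsgLib.StClassical
open scoped MatrixGroups

variable {n : ℕ} {F : Type*} [Field F]

/-- The model, with the representatives of reflections derived from root elements. -/
theorem model_of_root {C : Comb n} {G : Subgroup (GL (Fin n) F)}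
    (lab_rev : ∀ i a b, C.lab i (Fin.rev a) = C.lab i (Fin.rev b) ↔ C.lab i a = C.lab i b)
    (decomp : ∀ g ∈ G, ∃ (t : Fin n → Fˣ) (π : Equiv.Perm (Fin n)) (a u : GL (Fin n) F),
      a ∈ G ∧ a ∈ unitri n F ∧ u ∈ G ∧ u ∈ unitri n F ∧ monoGL t π ∈ G ∧ g = a * monoGL t π * u)
    (comm : ∀ (t : Fin n → Fˣ) (π : Equiv.Perm (Fin n)), monoGL t π ∈ G → C.ok π)
    (factor : ∀ (t : Fin n → Fˣ) (π : Equiv.Perm (Fin n)), monoGL t π ∈ G →
      ∀ b ∈ G, b ∈ unitri n F → ∃ a c : GL (Fin n) F,
        a ∈ G ∧ a ∈ unitri n F ∧ (monoGL t π)⁻¹ * a * monoGL t π ∈ lowerTri n F ∧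
        c ∈ G ∧ c ∈ unitri n F ∧ (monoGL t π)⁻¹ * c * monoGL t π ∈ unitri n F ∧ b = a * c)
    (rev_mem : ∀ g ∈ G, revGL n F * g * (revGL n F)⁻¹ ∈ G)
    (root : ∀ i : C.I, ∃ x ∈ G, x ∈ unitri n F ∧
      (∀ j k, (x : Matrix (Fin n) (Fin n) F) j k ≠ 0 → C.lab i j = C.lab i k) ∧
      (x : Matrix (Fin n) (Fin n) F) (C.pt i) (C.sg i (C.pt i)) ≠ 0)
    (upper_block : ∀ (i : C.I), ∀ g ∈ G, g ∈ Cfsg.upperTriangularGL n F →
      (g : Matrix (Fin n) (Fin n) F).BlockTriangular (C.lab i))
    (supp : ∀ (i : C.I), ∀ a ∈ G, a ∈ unitri n F →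
      (∀ j k, j < k → (a : Matrix (Fin n) (Fin n) F) j k ≠ 0 → C.sg i k < C.sg i j) →
      ∀ j k, j < k → (a : Matrix (Fin n) (Fin n) F) j k ≠ 0 → C.rel i j k)
    (w0_opp : ∀ z ∈ G, z ∈ unitri n F →
      (∀ j k, j < k → (z : Matrix (Fin n) (Fin n) F) j k ≠ 0 → C.w0.symm j < C.w0.symm k) → z = 1) :
    Model C G where
  decomp := decomp
  comm := comm
  factor := factor
  upper_block := upper_block
  supp := supp
  w0_opp := w0_opp
  root i := by
    obtain ⟨x, hx, hxU, -, hne⟩ := root i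
    exact ⟨x, hx, hxU, hne⟩
  refl i := by
    obtain ⟨x, hx, hxU, hblk, hne⟩ := root i
    set y := revGL n F * x * (revGL n F)⁻¹ with hy
    have hyG : y ∈ G := rev_mem x hx
    have hyP : y ∈ blkGL F (C.lab i) := fun j k hjk => by
      rw [hy, rev_conj_apply]
      by_contra h
      exact hjk.ne' ((lab_rev i j k).1 (hblk _ _ h))
    obtain ⟨t, π, a, u, ha, haU, hu, huU, hm, he⟩ := decomp y hyG
    have hπ : ∀ j, C.lab i (π j) = C.lab i j := (mono_mem_blkGL_iff (t := t)).1 (by
      rw [show monoGL t π = a⁻¹ * y * u⁻¹ by rw [he]; group]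
      exact mul_mem (mul_mem (inv_mem (upper_block i a ha haU.1)) hyP) (inv_mem (upper_block i u hu huU.1)))
    rcases C.eq_or_eq i (comm t π hm) hπ with rfl | rfl
    · exfalso
      have hyB : y ∈ Cfsg.upperTriangularGL n F := by
        rw [he, monoGL_one]
        exact mul_mem (mul_mem haU.1 (diag_mem_upper t)) huU.1
      have h0 := upper_apply hyB
        (show Fin.rev (C.sg i (C.pt i)) < Fin.rev (C.pt i) from Fin.rev_lt_rev.2 (C.pt_lt i))
      rw [hy, rev_conj_apply, Fin.rev_rev, Fin.rev_rev] at h0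
      exact hne h0
    · exact ⟨t, hm⟩

/-- Transport of the Steinberg character along an embedding. -/
theorem exists_steinberg_of_model [Finite F] (p : ℕ) [Fact p.Prime] [CharP F p] {H : Type*} [Group H]
    (f : H →* GL (Fin n) F) (hf : Function.Injective f) {C : Comb n} (M : Model C f.range) :
    ∃ χ : H ⧸ Subgroup.center H → ℂ, Cfsg.IsIrrCharacter (H ⧸ Subgroup.center H) χ ∧
      ∀ P : Sylow p (H ⧸ Subgroup.center H), χ 1 = Nat.card P ∧
        ∀ x : H ⧸ Subgroup.center H, x ∈ P → x ≠ 1 → χ x = 0 := by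
  classical
  obtain ⟨χ, hχ, hP⟩ := M.exists_steinberg p
  let e : H ≃* f.range := MonoidHom.ofInjective hf
  have hmap : (Subgroup.center H).map (e : H →* f.range) = Subgroup.center f.range := by
    refine le_antisymm ?_ ?_
    · rintro _ ⟨z, hz, rfl⟩
      refine Subgroup.mem_center_iff.2 fun w => ?_
      obtain ⟨v, rfl⟩ := e.surjective w
      show e v * e z = e z * e v
      rw [← map_mul, ← map_mul, Subgroup.mem_center_iff.1 hz]
    · intro w hw
      obtain ⟨v, rfl⟩ := e.surjective w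
      refine ⟨v, Subgroup.mem_center_iff.2 fun u => e.injective ?_, rfl⟩
      rw [map_mul, map_mul, Subgroup.mem_center_iff.1 hw]
  let eq : H ⧸ Subgroup.center H ≃* f.range ⧸ Subgroup.center f.range :=
    QuotientGroup.congr _ _ e hmap
  haveI : Finite H := Finite.of_equiv _ e.symm.toEquiv
  refine ⟨fun x => χ (eq x), CfsgLib.Char.IsIrrCharacter.comp_surjective hχ eq.toMonoidHom eq.surjective,
    fun P => ?_⟩
  let Q : Sylow p (f.range ⧸ Subgroup.center f.range) := P.mapSurjective (f := eq.toMonoidHom) eq.surjective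
  have hQ : ∀ x, eq x ∈ Q ↔ x ∈ P := fun x => by
    show eq x ∈ ((P : Subgroup _).map eq.toMonoidHom) ↔ _
    exact Subgroup.mem_map_iff_mem eq.injective
  have hcard : Nat.card Q = Nat.card P :=
    Nat.card_congr ((P : Subgroup _).equivMapOfInjective eq.toMonoidHom eq.injective).toEquiv.symm
  refine ⟨?_, fun x hx hx1 => (hP Q).2 _ ((hQ x).2 hx) fun h => hx1 (eq.injective (h.trans (map_one eq).symm))⟩
  show χ (eq 1) = _
  rw [map_one, (hP Q).1, hcard]

theorem conj_mem_commutator {G : Type*} [Group G] {H : Subgroup G} {r g : G} (hr : r ∈ H)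
    (hg : g ∈ ⁅H, H⁆) : r * g * r⁻¹ ∈ ⁅H, H⁆ := by
  have h := Subgroup.mem_map_of_mem (MulAut.conj r).toMonoidHom hg
  rw [Subgroup.map_commutator] at h
  have hle : H.map (MulAut.conj r).toMonoidHom ≤ H := by
    rintro _ ⟨a, ha, rfl⟩
    exact mul_mem (mul_mem hr ha) (inv_mem hr)
  simpa using Subgroup.commutator_mono hle hle h

theorem range_comp_commutator {G G' : Type*} [Group G] [Group G'] (f : G →* G') :
    (f.comp (commutator G).subtype).range = ⁅f.range, f.range⁆ := by
  rw [MonoidHom.range_comp, Subgroup.range_subtype, commutator_def, Subgroup.map_commutator,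
    ← MonoidHom.range_eq_map]

theorem commutator_self_le {G : Type*} [Group G] (H : Subgroup G) : ⁅H, H⁆ ≤ H :=
  Subgroup.commutator_le.2 fun a ha b hb =>
    mul_mem (mul_mem (mul_mem ha hb) (inv_mem ha)) (inv_mem hb)

end CfsgLib.StGen
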