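import Cfsg.Agent.StGen.PlusOmega
import Cfsg.Agent.StGen.Build

/-!
# Combinatorial properties of orthogonal unitriangular matrices and root elements
-/

set_option autoImplicit false
set_option linter.unusedSectionVars false

namespace CfsgLib.StGen

open Matrix QuadraticMap CfsgLib.Pronormal CfsgLib.Unitary CfsgLib.StClassical CfsgLib.Quad
open scoped MatrixGroups

variable {m : ℕ} {K : Type*} [Field K]

theorem block_of_monotone {n : ℕ} {l : Fin n → ℕ} (hl : Monotone l) {g : GL (Fin n) K}
    (hg : g ∈ Cfsg.upperTriangularGL n K) : (g : Matrix (Fin n) (Fin n) K).BlockTriangular l := fun _ _ hab =>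
  upper_apply hg (lt_of_not_ge fun h => not_lt.2 (hl h) hab)

theorem plus_upper_block (i : (combPlus m).I) {g : GL (Fin (2 * (m + 1))) K} (hg : g ∈ orth m K)
    (hU : g ∈ Cfsg.upperTriangularGL (2 * (m + 1)) K) :
    (g : Matrix (Fin (2 * (m + 1))) (Fin (2 * (m + 1))) K).BlockTriangular ((combPlus m).lab i) := by
  rcases i with i | h
  · exact block_of_monotone (lab_mono (bIx m i)) hU
  · intro a b hab
    change lab (lastIx m h.down) (tau m b) < lab (lastIx m h.down) (tau m a) at hab
    have hne : a ≠ b := fun e => hab.ne' (by rw [e])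
    rcases lt_or_gt_of_ne hne with h1 | h1
    · by_cases h2 : a = mid m ∧ b = Fin.rev (mid m)
      · rw [h2.1, h2.2]; exact upper_mid hg hU
      · exact absurd (lab_mono (lastIx m h.down) (tau_lt h1 h2).le) hab.not_ge
    · exact upper_apply hU h1

theorem minus_upper_block (i : Fin m) {g : GL (Fin (2 * (m + 1))) K}
    (hU : g ∈ Cfsg.upperTriangularGL (2 * (m + 1)) K) :
    (g : Matrix (Fin (2 * (m + 1))) (Fin (2 * (m + 1))) K).BlockTriangular ((combMinus m).lab i) := by
  refine block_of_monotone (fun a b hab => ?_) hU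
  change mLab m i a ≤ mLab m i b
  unfold mLab
  have hab' : (a : ℕ) ≤ b := hab
  have : (i : ℕ) < m := Fin.isLt i
  split_ifs with h1 h2 h3 h4
  · exact lab_mono _ hab
  all_goals omega

theorem sg_inv_lab {i : Fin m} {j k : Fin (2 * (m + 1))} (hjk : j < k)
    (hs : sg (bIx m i) k < sg (bIx m i) j) : lab (bIx m i) j = lab (bIx m i) k := by
  have := i.isLt
  have := j.isLt
  have := k.isLt
  rw [Fin.lt_def] at hjk hs
  rw [sg_apply, sg_apply, if_pos (bIx_lt m i), if_pos (bIx_lt m i)] at hs
  simp only [lab, bIx] at hs ⊢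
  grind

theorem plus_supp (i : (combPlus m).I) {a : GL (Fin (2 * (m + 1))) K} (ha : a ∈ orth m K)
    (haU : a ∈ unitri (2 * (m + 1)) K)
    (hs : ∀ j k, j < k → (a : Matrix (Fin (2 * (m + 1))) (Fin (2 * (m + 1))) K) j k ≠ 0 →
      (combPlus m).sg i k < (combPlus m).sg i j)
    (j k : Fin (2 * (m + 1))) (hjk : j < k)
    (h0 : (a : Matrix (Fin (2 * (m + 1))) (Fin (2 * (m + 1))) K) j k ≠ 0) : (combPlus m).rel i j k := by
  rcases i with i | h
  · exact sg_inv_lab hjk (hs j k hjk h0)
  · have hm := h.down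
    have hlt := hs j k hjk h0
    change dSg m (.inr h) k < dSg m (.inr h) j at hlt
    show dLab m (.inr h) j = dLab m (.inr h) k
    set p : Fin (2 * (m + 1)) := pt (lastIx m hm) with hp
    have hp' : (p : ℕ) = m - 1 := rfl
    have hne1 : ¬ (j = mid m ∧ k = Fin.rev (mid m)) := fun e => h0 (by rw [e.1, e.2]; exact upper_mid ha haU.1)
    have hne2 : ¬ (j = p ∧ k = Fin.rev p) := by
      rintro ⟨rfl, rfl⟩
      refine h0 ?_
      have hcol := (mem_orth_iff.1 ha).2 (Fin.rev p)
      rw [oqQ_apply, Finset.sum_eq_single (⟨m - 1, by omega⟩ : Fin (m + 1))] at hcol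
      · have e : spIdx (m + 1) (Sum.inl (⟨m - 1, by omega⟩ : Fin (m + 1))) = p := Fin.ext rfl
        rw [← rev_left, e, haU.2, mul_one] at hcol
        exact hcol
      · intro l _ hl
        have hl' : (l : ℕ) ≠ m - 1 := fun e => hl (Fin.ext e)
        have hlm := l.isLt
        by_cases h1 : (l : ℕ) = m
        · have hz : (a : Matrix (Fin (2 * (m + 1))) (Fin (2 * (m + 1))) K) (spIdx (m + 1) (Sum.inr l)) (Fin.rev p) = 0 := by
            by_contra hnz
            have h2 := hs _ _ (Fin.lt_def.2 (by rw [spIdx_inr, Fin.val_rev]; omega)) hnz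
            change dSg m (.inr h) _ < dSg m (.inr h) _ at h2
            rw [Fin.lt_def, dSg_inr_apply, dSg_inr_apply, spIdx_inr, Fin.val_rev] at h2
            grind
          rw [hz, mul_zero]
        · rw [upper_apply haU.1 (i := spIdx (m + 1) (Sum.inr l))
            (Fin.lt_def.2 (by rw [spIdx_inr, Fin.val_rev]; omega)), mul_zero]
      · simp
    rw [Fin.lt_def, dSg_inr_apply, dSg_inr_apply] at hlt
    simp only [Fin.ext_iff, mid, Fin.val_rev, hp'] at hne1 hne2
    have := j.isLt
    have := k.isLt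
    rw [Fin.lt_def] at hjk
    simp only [dLab, lab, lastIx, bIx, tau_apply]
    grind (splits := 50)

theorem minus_supp (i : Fin m) {a : GL (Fin (2 * (m + 1))) K} (ha : a ∈ orth m K)
    (haU : a ∈ unitri (2 * (m + 1)) K)
    (hs : ∀ j k, j < k → (a : Matrix (Fin (2 * (m + 1))) (Fin (2 * (m + 1))) K) j k ≠ 0 →
      (combMinus m).sg i k < (combMinus m).sg i j)
    (j k : Fin (2 * (m + 1))) (hjk : j < k)
    (h0 : (a : Matrix (Fin (2 * (m + 1))) (Fin (2 * (m + 1))) K) j k ≠ 0) : (combMinus m).rel i j k := by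
  have hlt := hs j k hjk h0
  change mSg m i k < mSg m i j at hlt
  change mLab m i j = mLab m i k ∧ ¬ (j = mid m ∧ k = Fin.rev (mid m))
  have hne : ¬ (j = mid m ∧ k = Fin.rev (mid m)) := fun e => h0 (by rw [e.1, e.2]; exact upper_mid ha haU.1)
  refine ⟨?_, hne⟩
  by_cases hi : (i : ℕ) + 1 < m
  · simp only [mSg, if_pos hi] at hlt
    simp only [mLab, if_pos hi]
    exact sg_inv_lab hjk hlt
  · rw [Fin.lt_def, mSg_apply m i hi, mSg_apply m i hi] at hlt
    have := j.isLt
    have := k.isLt
    have : (i : ℕ) < m := Fin.isLt i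
    rw [Fin.lt_def] at hjk
    simp only [mLab, if_neg hi]
    grind (splits := 50)

theorem longD_opp {z : GL (Fin (2 * (m + 1))) K} (hz : z ∈ orth m K) (hU : z ∈ unitri (2 * (m + 1)) K)
    (h : ∀ j k, j < k → (z : Matrix (Fin (2 * (m + 1))) (Fin (2 * (m + 1))) K) j k ≠ 0 →
      (longD m).symm j < (longD m).symm k) : z = 1 := by
  refine Units.ext (Matrix.ext fun j k => ?_)
  rcases lt_trichotomy j k with hjk | rfl | hjk
  · rw [Units.val_one, Matrix.one_apply_ne hjk.ne]
    by_contra h0
    have hlt := h j k hjk h0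
    rcases longD_cases m with e | e <;> rw [e] at hlt
    · rw [Fin.revPerm_symm, Fin.revPerm_apply, Fin.revPerm_apply, Fin.rev_lt_rev] at hlt
      exact hlt.asymm hjk
    · have es : ∀ x, (Fin.revPerm * tau m : Equiv.Perm (Fin (2 * (m + 1)))).symm x = Fin.rev (tau m x) := by
        intro x
        rw [Equiv.symm_apply_eq, Equiv.Perm.mul_apply, tau_rev m, tau_tau_apply, Fin.revPerm_apply, Fin.rev_rev]
      rw [es, es, Fin.rev_lt_rev] at hlt
      by_cases h2 : j = mid m ∧ k = Fin.rev (mid m)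
      · exact h0 (by rw [h2.1, h2.2]; exact upper_mid hz hU.1)
      · exact hlt.asymm (tau_lt hjk h2)
  · simp [hU.2]
  · rw [upper_apply hU.1 hjk, Units.val_one, Matrix.one_apply_ne hjk.ne']

/-! ### Root elements -/

/-- The root element attached to a left position and a vector. -/
noncomputable def rootGL (p : Fin (2 * (m + 1))) (a : Fin (2 * (m + 1)) → K) : GL (Fin (2 * (m + 1))) K :=
  toGL m K (siegel (oqQ m K) (Pi.single p 1) a)

theorem rootGL_mem (p : Fin (2 * (m + 1))) (a : Fin (2 * (m + 1)) → K) : rootGL p a ∈ orth m K :=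
  toGL_range (m := m) (K := K) ▸ ⟨_, rfl⟩

theorem rootGL_apply {p : Fin (2 * (m + 1))} {a : Fin (2 * (m + 1)) → K} (ha : a (Fin.rev p) = 0)
    (r c : Fin (2 * (m + 1))) :
    ((rootGL p a : GL (Fin (2 * (m + 1))) K) : Matrix (Fin (2 * (m + 1))) (Fin (2 * (m + 1))) K) r c =
      (if r = c then 1 else 0) + (if Fin.rev c = p then a r else 0) -
        (if r = p then a (Fin.rev c) + (if Fin.rev c = p then oqQ m K a else 0) else 0) := by
  rw [rootGL, toGL_apply, siegel_apply (oqQ_single p) (by rw [polar_single_left]; exact ha),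
    polar_single_left, polar_single_left]
  simp only [Pi.sub_apply, Pi.add_apply, Pi.smul_apply, smul_eq_mul, Pi.single_apply]
  split_ifs <;> simp

theorem rootGL_unitri {p : Fin (2 * (m + 1))} {a : Fin (2 * (m + 1)) → K}
    (hp : (p : ℕ) ≤ m) (ha : ∀ r : Fin (2 * (m + 1)), ((r : ℕ) ≤ p ∨ (Fin.rev r : ℕ) ≤ p) → a r = 0) :
    rootGL p a ∈ unitri (2 * (m + 1)) K := by
  have ha' : a (Fin.rev p) = 0 := ha _ (Or.inr (by rw [Fin.rev_rev]))
  have key : ∀ r c : Fin (2 * (m + 1)), c ≤ r →
      (if Fin.rev c = p then a r else 0) = 0 ∧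
      (if r = p then a (Fin.rev c) + (if Fin.rev c = p then oqQ m K a else 0) else 0) = 0 := by
    intro r c hcr
    have hcr' : (c : ℕ) ≤ r := hcr
    constructor
    · split_ifs with e
      · refine ha r (Or.inr ?_)
        rw [← e, Fin.val_rev, Fin.val_rev]; omega
      · rfl
    · split_ifs with e e'
      · exfalso
        subst e
        have := congrArg Fin.val e'
        rw [Fin.val_rev] at this
        omega
      · rw [add_zero]
        refine ha _ (Or.inr ?_)
        rw [Fin.rev_rev]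
        subst e
        exact hcr'
      · rfl
  refine ⟨fun r c hcr => ?_, fun r => ?_⟩
  · have hcr' : c < r := hcr
    rw [rootGL_apply ha', (key r c hcr'.le).1, (key r c hcr'.le).2, if_neg hcr'.ne']
    simp
  · rw [rootGL_apply ha', (key r r le_rfl).1, (key r r le_rfl).2, if_pos rfl]
    simp

theorem rootGL_offdiag {p : Fin (2 * (m + 1))} {a : Fin (2 * (m + 1)) → K}
    (ha : a (Fin.rev p) = 0) {r c : Fin (2 * (m + 1))}
    (h : ((rootGL p a : GL (Fin (2 * (m + 1))) K) : Matrix (Fin (2 * (m + 1))) (Fin (2 * (m + 1))) K) r c ≠ 0) :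
    r = c ∨ (c = Fin.rev p ∧ a r ≠ 0) ∨ (r = p ∧ (a (Fin.rev c) ≠ 0 ∨ c = Fin.rev p)) := by
  rw [rootGL_apply ha] at h
  by_contra hc
  push Not at hc
  obtain ⟨h1, h2, h3⟩ := hc
  rw [if_neg h1] at h
  have e1 : (if Fin.rev c = p then a r else 0) = 0 := by
    split_ifs with e
    · exact h2 (by rw [← e, Fin.rev_rev])
    · rfl
  have e2 : (if r = p then a (Fin.rev c) + (if Fin.rev c = p then oqQ m K a else 0) else 0) = 0 := by
    split_ifs with e e'
    · exact absurd (by rw [← e', Fin.rev_rev]) (h3 e).2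
    · rw [(h3 e).1, add_zero]
    · rfl
  rw [e1, e2] at h
  simp at h

end CfsgLib.StGen
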