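import Cfsg.Agent.StGen.MinusExt
import Cfsg.Agent.StGen.Fields
import Cfsg.Agent.StClassical.OrthOdd

/-!
# The Steinberg character of the projective commutator groups of orthogonal groups of minus type
-/

set_option autoImplicit false
set_option linter.unusedSectionVars false
set_option linter.style.haveILetI false

namespace CfsgLib.StGen

open Matrix QuadraticMap CfsgLib.Pronormal CfsgLib.Unitary CfsgLib.StClassical CfsgLib.Quad CfsgLib.Forms
open scoped MatrixGroups

universe u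

variable {m : ℕ} {F K : Type u} [Field F] [Field K] {a b : F} (E : Ext F K a b)

namespace Ext

/-- The twisted orthogonal group. -/
noncomputable def om (E : Ext F K a b) (m : ℕ) : Subgroup (GL (Fin (2 * (m + 1))) K) := (E.minusHom m).range

theorem mem_om {g : GL (Fin (2 * (m + 1))) K} : g ∈ E.om m ↔ g ∈ orth m K ∧ E.theta m g = g :=
  E.mem_range_iff

theorem om_le : E.om m ≤ orth m K := fun _ hg => (E.mem_om.1 hg).1

/-- The isometries of the minus form as linear maps, embedded over the extension. -/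
noncomputable def linHom (E : Ext F K a b) (m : ℕ) :
    oGroup (minusQ m a b) →* GL (Fin (2 * (m + 1))) K :=
  (E.minusHom m).comp ((MulEquiv.subgroupCongr (congrArg (Cfsg.isometryGroup F) (minusQ_coe m a b))).toMonoidHom.comp
    (isoGroupEquiv (minusQ m a b)).symm.toMonoidHom)

theorem linHom_range : (E.linHom m).range = E.om m := by
  refine le_antisymm (fun g ⟨x, hx⟩ => ⟨_, hx⟩) ?_
  rintro g ⟨x, rfl⟩
  obtain ⟨y, rfl⟩ := (MulEquiv.subgroupCongr
    (congrArg (Cfsg.isometryGroup F) (minusQ_coe m a b))).surjective x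
  obtain ⟨z, rfl⟩ := (isoGroupEquiv (minusQ m a b)).symm.surjective y
  exact ⟨z, rfl⟩

theorem linHom_injective : Function.Injective (E.linHom m) := fun _ _ h =>
  (isoGroupEquiv (minusQ m a b)).symm.injective
    ((MulEquiv.subgroupCongr (congrArg (Cfsg.isometryGroup F) (minusQ_coe m a b))).injective
      (E.minusHom_injective h))

theorem linHom_mulVec (x : oGroup (minusQ m a b)) (u : (Fin m ⊕ Fin m) ⊕ Fin 2 → F) :
    (E.linHom m x : Matrix (Fin (2 * (m + 1))) (Fin (2 * (m + 1))) K) *ᵥ E.pEquiv m (E.ι ∘ u) =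
      E.pEquiv m (E.ι ∘ x.1 u) := by
  refine (E.psi_mulVec _ _).trans (congrArg (E.pEquiv m) (funext fun i => ?_))
  refine ((RingHom.map_mulVec E.ι _ u i).symm).trans (congrArg E.ι ?_)
  exact congrFun (LinearMap.toMatrix'_mulVec x.1.toLinearMap u) i

theorem commutator_om_le_omg : ⁅E.om m, E.om m⁆ ≤ omg m K :=
  Subgroup.commutator_mono E.om_le E.om_le

theorem mem_commutator_of_linHom {x : oGroup (minusQ m a b)} (hx : x ∈ commutator (oGroup (minusQ m a b))) :
    E.linHom m x ∈ ⁅E.om m, E.om m⁆ := by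
  rw [← E.linHom_range, MonoidHom.range_eq_map, ← Subgroup.map_commutator, ← commutator_def]
  exact ⟨x, hx, rfl⟩

theorem hom_to_plus : ∃ Φ : oGroup (minusQ m a b) →* oGroup (oqQ m K), (∀ x, toGL m K (Φ x) = E.linHom m x) ∧
    ∀ d, Φ (refl (minusQ m a b) d) = refl (oqQ m K) (E.pEquiv m (E.ι ∘ d)) := by
  have h : ∀ x, ∃ y, toGL m K y = E.linHom m x := fun x => by
    rw [← MonoidHom.mem_range, toGL_range]
    exact E.om_le (E.linHom_range (m := m) ▸ ⟨x, rfl⟩)
  choose Φ hΦ using h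
  refine ⟨MonoidHom.mk' Φ fun x y => toGL_injective (by rw [hΦ, map_mul, map_mul, hΦ, hΦ]), hΦ, fun d => ?_⟩
  refine Subtype.ext (LinearEquiv.toLinearMap_injective
    (((Pi.basisFun K ((Fin m ⊕ Fin m) ⊕ Fin 2)).map (E.pEquiv m)).ext fun i => ?_))
  have hi : E.pEquiv m (Pi.single i 1) = E.pEquiv m (E.ι ∘ Pi.single i 1) := congrArg _ (funext fun j => by
    simp [Pi.single_apply, apply_ite E.ι])
  rw [Module.Basis.map_apply, Pi.basisFun_apply, hi]
  show (Φ _).1 _ = (refl _ _).1 _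
  have hm : ∀ (y : oGroup (oqQ m K)) w, (toGL m K y : Matrix (Fin (2 * (m + 1))) (Fin (2 * (m + 1))) K) *ᵥ w =
      y.1 w := fun y w => LinearMap.toMatrix'_mulVec y.1.toLinearMap w
  rw [← hm, hΦ, E.linHom_mulVec, refl_apply, refl_apply]
  set u : (Fin m ⊕ Fin m) ⊕ Fin 2 → F := Pi.single i 1
  have hQ : ∀ w, oqQ m K (E.pEquiv m (E.ι ∘ w)) = E.ι (minusQ m a b w) := fun w => by
    rw [E.oqQ_pEquiv, E.map_minusQ]
  have hp : polar (oqQ m K) (E.pEquiv m (E.ι ∘ u)) (E.pEquiv m (E.ι ∘ d)) = E.ι (polar (minusQ m a b) u d) := by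
    have : E.ι ∘ u + E.ι ∘ d = E.ι ∘ (u + d) := funext fun j => (map_add E.ι _ _).symm
    simp only [polar, ← map_add (E.pEquiv m), this, hQ, map_sub]
  rw [hQ, hp, show E.ι ∘ (u + (-(minusQ m a b d)⁻¹ * polar (minusQ m a b) u d) • d) =
      E.ι ∘ u + (-(E.ι (minusQ m a b d))⁻¹ * E.ι (polar (minusQ m a b) u d)) • E.ι ∘ d from
    funext fun j => by simp, map_add, map_smul]

theorem card_ne_two [Finite F] (hK : Nat.card K = Nat.card F ^ 2) : Nat.card K ≠ 2 := by
  have h1 := Finite.one_lt_card (α := F)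
  have h2 := Nat.pow_le_pow_left (show 2 ≤ Nat.card F from h1) 2
  omega

theorem sigma_r_div_ne_one : E.σ E.r / E.r ≠ 1 ∧ E.r ≠ 0 ∧ E.σ E.r ≠ 0 := by
  have h0 : E.r ≠ 0 := fun e => E.ne (by rw [e, map_zero])
  refine ⟨fun e => E.ne ?_, h0, fun e => h0 ?_⟩
  · rwa [div_eq_one_iff_eq h0] at e
  · rw [← E.σσ E.r, e, map_zero]

theorem unitri_mem_one [Finite K] {g : GL (Fin (2 * (1 + 1))) K} (hg : g ∈ E.om 1)
    (hU : g ∈ unitri (2 * (1 + 1)) K) : g ∈ ⁅E.om 1, E.om 1⁆ := by
  obtain ⟨hl1, hr, hσr⟩ := E.sigma_r_div_ne_one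
  set Λ : Kˣ := Units.mk0 (E.σ E.r / E.r) (div_ne_zero hσr hr)
  let t : Fin (2 * (1 + 1)) → Kˣ := fun j =>
    if (j : ℕ) = 1 then Λ else if (j : ℕ) = 2 then Λ⁻¹ else 1
  have hΛ : E.σ (Λ : K) = ((Λ⁻¹ : Kˣ) : K) := by
    rw [Units.val_inv_eq_inv_val]
    simp [Λ, map_div₀, E.σσ]
  have hdO : monoGL t 1 ∈ orth 1 K := by
    refine mem_orth.2 fun v => ?_
    rw [monoGL_one, diagGL_val, oqQ_apply, oqQ_apply]
    refine Finset.sum_congr rfl fun i _ => ?_
    rw [Matrix.mulVec_diagonal, Matrix.mulVec_diagonal]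
    have e : (t (spIdx (1 + 1) (Sum.inl i)) : K) * t (spIdx (1 + 1) (Sum.inr i)) = 1 := by
      rw [← Units.val_mul]
      simp only [t, spIdx_inl, spIdx_inr]
      fin_cases i <;> simp
    linear_combination (v (spIdx (1 + 1) (Sum.inl i)) * v (spIdx (1 + 1) (Sum.inr i))) * e
  have hd : monoGL t 1 ∈ E.om 1 := by
    refine E.mem_om.2 ⟨hdO, Units.ext (Matrix.ext fun j k => ?_)⟩
    rw [E.theta_apply, monoGL_apply, monoGL_apply]
    by_cases h : k = j
    · rw [if_pos (show (1 : Equiv.Perm (Fin (2 * (1 + 1)))) k = j from h),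
        if_pos (show (1 : Equiv.Perm (Fin (2 * (1 + 1)))) (tau 1 k) = tau 1 j from congrArg (tau 1) h)]
      simp only [t, tau_apply]
      by_cases h1 : (j : ℕ) = 1
      · rw [if_pos h1]
        simp only [if_pos h1]
        rw [show Λ = (Λ⁻¹)⁻¹ from (inv_inv _).symm, Units.val_inv_eq_inv_val, ← hΛ]
        simp [E.σσ, map_inv₀, hΛ]
      · by_cases h2 : (j : ℕ) = 2
        · simp [h2, hΛ]
        · simp [h1, h2]
    · rw [if_neg (show ¬ (1 : Equiv.Perm (Fin (2 * (1 + 1)))) k = j from h),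
        if_neg (show ¬ (1 : Equiv.Perm (Fin (2 * (1 + 1)))) (tau 1 k) = tau 1 j from fun e => h ((tau 1).injective e)),
        map_zero]
  set d := monoGL t (1 : Equiv.Perm (Fin (2 * (1 + 1))))
  let U : Subgroup (GL (Fin (2 * (1 + 1))) K) := E.om 1 ⊓ unitri _ K
  have hcent : ∀ x ∈ U, d * x * d⁻¹ = x → x = 1 := by
    rintro x ⟨hx, hxU⟩ he
    have h0 : ∀ j k, t j ≠ t k → (x : Matrix _ _ K) j k = 0 := by
      intro j k hjk
      have h1 := monoGL_conj_apply t 1 x j k
      rw [he] at h1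
      simp only [Equiv.Perm.one_apply] at h1
      by_contra hx0
      have h2 : (t j : K) * ((t k)⁻¹ : Kˣ) = 1 := mul_right_cancel₀ hx0 (by linear_combination -h1)
      exact hjk (mul_inv_eq_one.1 (Units.ext h2))
    have hΛ1 : Λ ≠ 1 := fun e => hl1 (congrArg Units.val e)
    have e01 := h0 0 1 (by simp [t, hΛ1.symm])
    have e02 := h0 0 2 (by simp [t, hΛ1])
    have e13 := h0 1 3 (by simp [t, hΛ1])
    have e23 := h0 2 3 (by simp [t, hΛ1])
    have e12 : (x : Matrix (Fin (2 * (1 + 1))) (Fin (2 * (1 + 1))) K) 1 2 = 0 :=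
      upper_mid (E.om_le hx) hxU.1
    have e03 : (x : Matrix (Fin (2 * (1 + 1))) (Fin (2 * (1 + 1))) K) 0 3 = 0 := by
      have hc := (mem_orth_iff.1 (E.om_le hx)).2 (3 : Fin (2 * (1 + 1)))
      rw [oqQ_apply, Fin.sum_univ_two] at hc
      simpa [spIdx_inl, spIdx_inr, e13, e23, hxU.2, show spIdx (1 + 1) (Sum.inl 0) = (0 : Fin 4) from Fin.ext rfl,
        show spIdx (1 + 1) (Sum.inl 1) = (1 : Fin 4) from Fin.ext rfl,
        show spIdx (1 + 1) (Sum.inr 0) = (3 : Fin 4) from Fin.ext (by rw [spIdx_inr]; rfl),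
        show spIdx (1 + 1) (Sum.inr 1) = (2 : Fin 4) from Fin.ext (by rw [spIdx_inr]; rfl)] using hc
    refine Units.ext (Matrix.ext fun j k => ?_)
    rcases lt_trichotomy j k with h | rfl | h
    · rw [Units.val_one, Matrix.one_apply_ne h.ne]
      fin_cases j <;> fin_cases k <;> first | assumption | exact absurd h (by decide)
    · simp [hxU.2]
    · rw [upper_apply hxU.1 h, Units.val_one, Matrix.one_apply_ne h.ne']
  have hUmem : ∀ x : U, (x : GL (Fin (2 * (1 + 1))) K) ∈ E.om 1 ∧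
      (x : GL (Fin (2 * (1 + 1))) K) ∈ unitri (2 * (1 + 1)) K := fun x => Subgroup.mem_inf.1 x.2
  let f : U → U := fun x => ⟨d * x.1 * d⁻¹ * x.1⁻¹, Subgroup.mem_inf.2
    ⟨mul_mem (mul_mem (mul_mem hd (hUmem x).1) (inv_mem hd)) (inv_mem (hUmem x).1),
      mul_mem (conj_mem_unitri (hUmem x).2 fun _ _ h _ => h) (inv_mem (hUmem x).2)⟩⟩
  have hf : Function.Injective f := fun x y e => by
    have e' := congrArg Subtype.val e
    simp only [f] at e'
    have h1 := hcent _ (mul_mem (inv_mem y.2) x.2) (by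
      rw [mul_inv_eq_iff_eq_mul] at e'
      rw [show d * (y.1⁻¹ * x.1) * d⁻¹ = (d * y.1 * d⁻¹)⁻¹ * (d * x.1 * d⁻¹) by group, e']
      group)
    exact Subtype.ext (inv_mul_eq_one.1 h1).symm
  obtain ⟨x, hx⟩ := Finite.surjective_of_injective hf ⟨g, hg, hU⟩
  rw [← show d * x.1 * d⁻¹ * x.1⁻¹ = g from congrArg Subtype.val hx, ← commutatorElement_def]
  exact Subgroup.commutator_mem_commutator hd (hUmem x).1

theorem unitri_mem [Finite F] [Finite K] (hK : Nat.card K = Nat.card F ^ 2)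
    (hab : ∀ z₁ z₂ : F, z₁ ^ 2 + a * z₁ * z₂ + b * z₂ ^ 2 = 0 → z₁ = 0 ∧ z₂ = 0)
    {g : GL (Fin (2 * (m + 1))) K} (hg : g ∈ E.om m) (hU : g ∈ unitri (2 * (m + 1)) K) :
    g ∈ ⁅E.om m, E.om m⁆ := by
  by_cases hm : m = 1
  · subst hm; exact E.unitri_mem_one hg hU
  have hnd := minusQ_nondeg hab m
  have hgen : (∃ t : F, t ≠ 0 ∧ t ≠ 1) ∨ Module.finrank F ((Fin m ⊕ Fin m) ⊕ Fin 2 → F) ≠ 4 := Or.inr (by
    simp only [Module.finrank_pi, Fintype.card_sum, Fintype.card_fin]; omega)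
  rw [← E.linHom_range] at hg
  obtain ⟨x, rfl⟩ := hg
  refine E.mem_commutator_of_linHom ?_
  rcases two_ne_zero_or_charP (F := F) with h2 | h2
  · obtain ⟨p, hp⟩ := CharP.exists F
    haveI : Fact p.Prime := ⟨CharP.char_is_prime F p⟩
    haveI : CharP K p := charP_of_injective_ringHom E.ι.injective p
    have hodd : Odd p := (Fact.out : p.Prime).odd_of_ne_two fun e => h2 (by
      subst e; exact_mod_cast CharP.cast_eq_zero F 2)
    obtain ⟨k, hk⟩ := hodd.pow (n := 2 * (m + 1))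
    have hx : x ^ p ^ (2 * (m + 1)) = 1 := E.linHom_injective (by
      rw [map_pow, unitri_ppow p hU, map_one])
    have e : x = x ^ (k + 1) * x ^ (k + 1) := by
      rw [← pow_add, show k + 1 + (k + 1) = p ^ (2 * (m + 1)) + 1 by omega, pow_succ, hx, one_mul]
    rw [e]
    exact sq_mem_commutator hnd hgen _
  · haveI : CharP K 2 := charP_of_injective_ringHom E.ι.injective 2
    have hK2 : Nat.card K ≠ 2 ∨ m + 1 ≠ 2 := Or.inl (card_ne_two hK)
    obtain ⟨ε, hε⟩ := exists_parity (oqQ_nondeg (m := m) (K := K)) (hgen_oq hK2)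
    obtain ⟨Φ, hΦ, hΦr⟩ := E.hom_to_plus (m := m)
    rw [commutator_char_two hnd (ε := ε.comp Φ) hgen fun v hv => by
      rw [MonoidHom.comp_apply, hΦr]
      exact hε _ (by rw [E.oqQ_pEquiv, E.map_minusQ]; exact fun e => hv (E.ι.injective (e.trans (map_zero _).symm)))]
    have h1 := unitri_mem_omg hK2 (E.om_le (E.linHom_range (m := m) ▸ ⟨x, rfl⟩)) hU
    rw [omg_eq, ← hΦ] at h1
    obtain ⟨y, hy, e⟩ := h1
    rw [toGL_injective e] at hy
    exact Abelianization.commutator_subset_ker ε hy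

theorem theta_rootGL {p : Fin (2 * (m + 1))} (hp : tau m p = p) {v : Fin (2 * (m + 1)) → K}
    (hv : v (Fin.rev p) = 0) (hfix : ∀ j, E.σ (v (tau m j)) = v j) (hQ : E.σ (oqQ m K v) = oqQ m K v) :
    E.theta m (rootGL p v) = rootGL p v := by
  refine Units.ext (Matrix.ext fun r c => ?_)
  rw [E.theta_apply, rootGL_apply hv, rootGL_apply hv]
  have e1 : ∀ j, tau m j = p ↔ j = p := fun j =>
    ⟨fun e => (tau m).injective (e.trans hp.symm), fun e => e ▸ hp⟩
  simp only [← tau_rev m c, e1, EmbeddingLike.apply_eq_iff_eq]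
  simp only [map_sub, map_add, apply_ite E.σ, map_one, map_zero, hfix, hQ]

theorem minus_model [Finite F] [Finite K] (hK : Nat.card K = Nat.card F ^ 2)
    (hab : ∀ z₁ z₂ : F, z₁ ^ 2 + a * z₁ * z₂ + b * z₂ ^ 2 = 0 → z₁ = 0 ∧ z₂ = 0) :
    Model (combMinus m) ⁅E.om m, E.om m⁆ := by
  have hle : ⁅E.om m, E.om m⁆ ≤ E.om m := commutator_self_le _
  have hK2 : Nat.card K ≠ 2 ∨ m + 1 ≠ 2 := Or.inl (card_ne_two hK)
  have hO : ∀ {g}, g ∈ ⁅E.om m, E.om m⁆ → g ∈ orth m K := fun hg => E.om_le (hle hg)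
  refine model_of_root (combMinus_lab_rev m) ?_ ?_ ?_ ?_ ?_ (fun i g _ hU => minus_upper_block i hU)
    (fun i a ha haU hs j k => minus_supp i (hO ha) haU hs j k) (fun z hz hU hh => longD_opp (hO hz) hU hh)
  · intro g hg
    obtain ⟨t, π, a, u, ha, haU, hu, huU, hm, haL, rfl⟩ := orth_decomp (hO hg)
    obtain ⟨haf, -, huf⟩ := E.theta_pres.split ha haU hm hu huU haL (E.mem_om.1 (hle hg)).2
    have ha' := E.unitri_mem hK hab (E.mem_om.2 ⟨ha, haf⟩) haU
    have hu' := E.unitri_mem hK hab (E.mem_om.2 ⟨hu, huf⟩) huU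
    refine ⟨t, π, a, u, ha', haU, hu', huU, ?_, rfl⟩
    have := mul_mem (mul_mem (inv_mem ha') hg) (inv_mem hu')
    simpa [mul_assoc] using this
  · exact fun t π hm => ⟨⟨revComm_of_fixed (mem_orth_iff.1 (hO hm)).1,
      sign_of_mono_mem hK2 (E.commutator_om_le_omg hm)⟩, E.theta_mono_comm (E.mem_om.1 (hle hm)).2⟩
  · intro t π hm b hb hbU
    obtain ⟨a, c, ha, haU, haL, hc, hcU, hcs, e⟩ := orth_factor (hO hm) (hO hb) hbU
    obtain ⟨haf, hcf⟩ := E.theta_pres.factor ha hc (hO hm) (E.mem_om.1 (hle hm)).2 haL hcs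
      (e ▸ (E.mem_om.1 (hle hb)).2)
    exact ⟨a, c, E.unitri_mem hK hab (E.mem_om.2 ⟨ha, haf⟩) haU, haU, haL,
      E.unitri_mem hK hab (E.mem_om.2 ⟨hc, hcf⟩) hcU, hcU, hcs, e⟩
  · refine fun g hg => conj_mem_commutator (E.mem_om.2 ⟨rev_mem_orth, ?_⟩) hg
    rw [revGL_eq_mono]
    exact E.theta_perm fun j => by simp only [Fin.revPerm_apply, tau_rev m j]
  · intro (i : Fin m)
    set p := pt (bIx m i) with hp
    have hp' : (p : ℕ) = i := rfl
    have hi := i.isLt
    have hpτ : tau m p = p := Fin.ext (by rw [tau_apply, hp']; grind)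
    by_cases hlast : (i : ℕ) + 1 < m
    · set q := sg (bIx m i) p with hq
      have hq' : (q : ℕ) = i + 1 := by rw [hq, hp, sg_pt, if_pos (bIx_lt m i)]; rfl
      let v : Fin (2 * (m + 1)) → K := Pi.single (Fin.rev q) 1
      have hv : ∀ r : Fin (2 * (m + 1)), ((r : ℕ) ≤ p ∨ (Fin.rev r : ℕ) ≤ p) → v r = 0 := fun r hr =>
        Pi.single_eq_of_ne (fun e => by
          subst e; rw [Fin.rev_rev, Fin.val_rev] at hr; omega) _
      have hvr : v (Fin.rev p) = 0 := hv _ (Or.inr (by rw [Fin.rev_rev]))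
      have hU := rootGL_unitri (show (p : ℕ) ≤ m by omega) hv
      have hθ := E.theta_rootGL hpτ hvr (fun j => by
        have e : tau m j = Fin.rev q ↔ j = Fin.rev q := by
          simp only [Fin.ext_iff, tau_apply, Fin.val_rev, hq']; grind
        simp only [v, Pi.single_apply, e]; split_ifs <;> simp)
        (by rw [show oqQ m K v = 0 from oqQ_single _, map_zero])
      refine ⟨rootGL p v, E.unitri_mem hK hab (E.mem_om.2 ⟨rootGL_mem p v, hθ⟩) hU, hU, fun r c hrc => ?_, ?_⟩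
      · show mLab m i r = mLab m i c
        simp only [mLab, if_pos hlast]
        rcases rootGL_offdiag hvr hrc with e | ⟨e, e'⟩ | ⟨e, e'⟩
        · rw [e]
        · have hr : r = Fin.rev q := by by_contra hne; exact e' (Pi.single_eq_of_ne hne _)
          rw [e, hr, lab_rev, hq, lab_sg]
        · rcases e' with e' | e'
          · have hc : c = q := by
              by_contra hne
              exact e' (Pi.single_eq_of_ne (fun x => hne (Fin.rev_inj.1 x)) _)
            rw [e, hc, hq, lab_sg]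
          · rw [e, e'] at hrc
            exfalso
            refine hrc ?_
            rw [rootGL_apply hvr, if_neg, if_pos (Fin.rev_rev p), if_pos rfl, if_pos (Fin.rev_rev p),
              Fin.rev_rev]
            · rw [hv p (Or.inl le_rfl), show oqQ m K v = 0 from oqQ_single _]; simp
            · intro x; have := congrArg Fin.val x; rw [Fin.val_rev] at this; omega
      · show ((rootGL p v : GL (Fin (2 * (m + 1))) K) : Matrix _ _ K) p (mSg m i p) ≠ 0
        rw [mSg, if_pos hlast, rootGL_apply hvr, if_neg, if_neg, if_pos rfl, if_neg]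
        · simp [v, hq]
        all_goals intro x; have := congrArg Fin.val x; (try rw [Fin.val_rev] at this); omega
    · let v : Fin (2 * (m + 1)) → K := Pi.single (mid m) 1 + Pi.single (Fin.rev (mid m)) 1
      have hv : ∀ r : Fin (2 * (m + 1)), r ≠ mid m → r ≠ Fin.rev (mid m) → v r = 0 := fun r h1 h2 => by
        simp [v, h1, h2]
      have hv' : ∀ r : Fin (2 * (m + 1)), ((r : ℕ) ≤ p ∨ (Fin.rev r : ℕ) ≤ p) → v r = 0 := fun r hr => by
        rw [Fin.val_rev] at hr
        refine hv r ?_ ?_ <;> · intro e; have := congrArg Fin.val e; simp [mid, Fin.val_rev] at this; omega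
      have hvr : v (Fin.rev p) = 0 := hv' _ (Or.inr (by rw [Fin.rev_rev]))
      have hU := rootGL_unitri (show (p : ℕ) ≤ m by omega) hv'
      have hQ : oqQ m K v = 1 := by
        show oqQ m K (_ + _) = 1
        rw [quad_add, oqQ_single, oqQ_single, polar_single_left, Pi.single_eq_same, zero_add, zero_add]
      have hθ := E.theta_rootGL hpτ hvr (fun j => by
        simp only [v, Pi.add_apply, Pi.single_apply]
        rcases eq_or_ne j (mid m) with rfl | h1
        · simp [tau, mid_ne m, (mid_ne m).symm]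
        rcases eq_or_ne j (Fin.rev (mid m)) with rfl | h2
        · simp [tau, mid_ne m, (mid_ne m).symm]
        simp [tau, Equiv.swap_apply_of_ne_of_ne h1 h2, h1, h2]) (by rw [hQ, map_one])
      refine ⟨rootGL p v, E.unitri_mem hK hab (E.mem_om.2 ⟨rootGL_mem p v, hθ⟩) hU, hU, fun r c hrc => ?_, ?_⟩
      · show mLab m i r = mLab m i c
        have hblk : ∀ x : Fin (2 * (m + 1)), v x ≠ 0 ∨ x = p ∨ x = Fin.rev p → mLab m i x = i := by
          intro x hx
          have hx' : (i : ℕ) ≤ x ∧ (x : ℕ) + i + 1 ≤ 2 * (m + 1) := by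
            have := x.isLt
            rcases hx with hx | hx | hx
            · have hr := fun h => hx (hv' x h)
              rw [Fin.val_rev] at hr
              constructor <;> by_contra hc <;> exact hr (by omega)
            · rw [hx, hp']; omega
            · rw [hx, Fin.val_rev, hp']; omega
          simp only [mLab, if_neg hlast, if_pos hx']
        have hrev : ∀ x : Fin (2 * (m + 1)), v (Fin.rev x) ≠ 0 → v x ≠ 0 := by
          intro x hx h0
          rcases eq_or_ne x (mid m) with rfl | h1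
          · simp [v, mid_ne m] at h0
          rcases eq_or_ne x (Fin.rev (mid m)) with rfl | h2
          · simp [v, (mid_ne m).symm] at h0
          exact hx (hv _ (fun e => h2 (Fin.rev_injective (e.trans (Fin.rev_rev _).symm)))
            (fun e => h1 (Fin.rev_injective e)))
        rcases rootGL_offdiag hvr hrc with e | ⟨e, e'⟩ | ⟨e, e'⟩
        · rw [e]
        · rw [hblk r (Or.inl e'), hblk c (Or.inr (Or.inr e))]
        · rw [hblk r (Or.inr (Or.inl e)), hblk c (e'.imp (hrev c) Or.inr)]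
      · show ((rootGL p v : GL (Fin (2 * (m + 1))) K) : Matrix _ _ K) p (mSg m i p) ≠ 0
        rw [show mSg m i p = Fin.rev p from mSg_pt m i hlast, rootGL_apply hvr, if_neg, if_pos (Fin.rev_rev p),
          if_pos rfl, if_pos (Fin.rev_rev p), Fin.rev_rev, hv' p (Or.inl le_rfl), hQ]
        · simp
        · intro x; have := congrArg Fin.val x; rw [Fin.val_rev] at this; omega

end Ext

theorem exists_steinberg_pomega_minus {F : Type u} [Field F] [Finite F] (p : ℕ) [Fact p.Prime] [CharP F p]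
    (m : ℕ) (a b : F) (hab : ∀ z₁ z₂ : F, z₁ ^ 2 + a * z₁ * z₂ + b * z₂ ^ 2 = 0 → z₁ = 0 ∧ z₂ = 0) :
    ∃ χ : Cfsg.POmega F (Cfsg.quadFormMinus m F a b) → ℂ,
      Cfsg.IsIrrCharacter (Cfsg.POmega F (Cfsg.quadFormMinus m F a b)) χ ∧
        ∀ P : Sylow p (Cfsg.POmega F (Cfsg.quadFormMinus m F a b)), χ 1 = Nat.card P ∧
          ∀ x : Cfsg.POmega F (Cfsg.quadFormMinus m F a b), x ∈ P → x ≠ 1 → χ x = 0 := by
  obtain ⟨K, _, _, E, hK⟩ := exists_ext hab
  haveI : CharP K p := charP_of_injective_ringHom E.ι.injective p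
  let f := (E.minusHom m).comp (commutator (Cfsg.isometryGroup F (Cfsg.quadFormMinus m F a b))).subtype
  have hf : f.range = ⁅E.om m, E.om m⁆ := range_comp_commutator _
  exact exists_steinberg_of_model p f (fun x y e => Subtype.ext (E.minusHom_injective e))
    (C := combMinus m) (hf ▸ E.minus_model hK hab)

end CfsgLib.StGen
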