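import Cfsg.Agent.StGen.Fields

/-!
# The Steinberg character of the projective commutator groups of split orthogonal groups
-/

set_option autoImplicit false
set_option linter.unusedSectionVars false

namespace CfsgLib.StGen

open Matrix QuadraticMap CfsgLib.Pronormal CfsgLib.Unitary CfsgLib.StClassical CfsgLib.Quad
open scoped MatrixGroups

variable {m : ℕ} {K : Type*} [Field K] [Finite K]

theorem plus_model (h : Nat.card K ≠ 2 ∨ m + 1 ≠ 2) : Model (combPlus m) (omg m K) := by
  have hle : omg m K ≤ orth m K := commutator_self_le _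
  refine model_of_root (combPlus_lab_rev m) ?_ ?_ ?_ ?_ ?_ (fun i g hg hU => plus_upper_block i (hle hg) hU)
    (fun i a ha haU hs j k => plus_supp i (hle ha) haU hs j k) (fun z hz hU hh => longD_opp (hle hz) hU hh)
  · intro g hg
    obtain ⟨t, π, a, u, ha, haU, hu, huU, -, -, rfl⟩ := orth_decomp (hle hg)
    have ha' := unitri_mem_omg h ha haU
    have hu' := unitri_mem_omg h hu huU
    refine ⟨t, π, a, u, ha', haU, hu', huU, ?_, rfl⟩
    have := mul_mem (mul_mem (inv_mem ha') hg) (inv_mem hu')
    simpa [mul_assoc] using this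
  · exact fun t π hm => ⟨revComm_of_fixed (mem_orth_iff.1 (hle hm)).1, sign_of_mono_mem h hm⟩
  · intro t π hm b hb hbU
    obtain ⟨a, c, ha, haU, haL, hc, hcU, hcs, e⟩ := orth_factor (hle hm) (hle hb) hbU
    exact ⟨a, c, unitri_mem_omg h ha haU, haU, haL, unitri_mem_omg h hc hcU, hcU, hcs, e⟩
  · exact fun g hg => conj_mem_commutator rev_mem_orth hg
  · rintro (i | hh)
    · set p := pt (bIx m i) with hp
      set q := sg (bIx m i) p with hq
      have hp' : (p : ℕ) = i := rfl
      have hq' : (q : ℕ) = i + 1 := by rw [hq, hp, sg_pt, if_pos (bIx_lt m i)]; rfl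
      have hi := i.isLt
      let a : Fin (2 * (m + 1)) → K := Pi.single (Fin.rev q) 1
      have ha : ∀ r : Fin (2 * (m + 1)), ((r : ℕ) ≤ p ∨ (Fin.rev r : ℕ) ≤ p) → a r = 0 := fun r hr =>
        Pi.single_eq_of_ne (fun e => by
          subst e; rw [Fin.rev_rev, Fin.val_rev] at hr; omega) _
      have har : a (Fin.rev p) = 0 := ha _ (Or.inr (by rw [Fin.rev_rev]))
      have hU := rootGL_unitri (show (p : ℕ) ≤ m by omega) ha
      refine ⟨rootGL p a, unitri_mem_omg h (rootGL_mem p a) hU, hU, fun r c hrc => ?_, ?_⟩
      · show lab (bIx m i) r = lab (bIx m i) c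
        rcases rootGL_offdiag har hrc with e | ⟨e, e'⟩ | ⟨e, e'⟩
        · rw [e]
        · have hr : r = Fin.rev q := by by_contra hne; exact e' (Pi.single_eq_of_ne hne _)
          rw [e, hr, lab_rev, hq, lab_sg]
        · rcases e' with e' | e'
          · have hc : c = q := by
              by_contra hne
              exact e' (Pi.single_eq_of_ne (fun x => hne (Fin.rev_inj.1 x)) _)
            rw [e, hc, hq, lab_sg]
          · rw [e, e'] at hrc
            exfalso
            refine hrc ?_
            rw [rootGL_apply har, if_neg, if_pos (Fin.rev_rev p), if_pos rfl, if_pos (Fin.rev_rev p),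
              Fin.rev_rev]
            · rw [ha p (Or.inl le_rfl), show oqQ m K a = 0 from oqQ_single _]; simp
            · intro x; have := congrArg Fin.val x; rw [Fin.val_rev] at this; omega
      · show ((rootGL p a : GL (Fin (2 * (m + 1))) K) : Matrix _ _ K) p q ≠ 0
        rw [rootGL_apply har, if_neg, if_neg, if_pos rfl, if_neg]
        · simp [a]
        all_goals intro x; have := congrArg Fin.val x; (try rw [Fin.val_rev] at this); omega
    · have hm := hh.down
      set p := pt (lastIx m hm) with hp
      have hp' : (p : ℕ) = m - 1 := rfl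
      let a : Fin (2 * (m + 1)) → K := Pi.single (mid m) 1
      have ha : ∀ r : Fin (2 * (m + 1)), ((r : ℕ) ≤ p ∨ (Fin.rev r : ℕ) ≤ p) → a r = 0 := fun r hr =>
        Pi.single_eq_of_ne (fun e => by
          subst e; rw [Fin.val_rev] at hr; simp only [mid] at hr; omega) _
      have har : a (Fin.rev p) = 0 := ha _ (Or.inr (by rw [Fin.rev_rev]))
      have hU := rootGL_unitri (show (p : ℕ) ≤ m by omega) ha
      refine ⟨rootGL p a, unitri_mem_omg h (rootGL_mem p a) hU, hU, fun r c hrc => ?_, ?_⟩
      · show dLab m (.inr hh) r = dLab m (.inr hh) c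
        rcases rootGL_offdiag har hrc with e | ⟨e, e'⟩ | ⟨e, e'⟩
        · rw [e]
        · have hr : r = mid m := by by_contra hne; exact e' (Pi.single_eq_of_ne hne _)
          rw [e, hr]
          simp only [dLab, lab, lastIx, bIx, tau_apply, mid, Fin.val_rev, hp']
          grind
        · rcases e' with e' | e'
          · have hc : c = Fin.rev (mid m) := by
              by_contra hne
              exact e' (Pi.single_eq_of_ne (fun x => hne (by rw [← x, Fin.rev_rev])) _)
            rw [e, hc]
            simp only [dLab, lab, lastIx, bIx, tau_apply, mid, Fin.val_rev, hp']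
            grind
          · rw [e, e'] at hrc
            exfalso
            refine hrc ?_
            rw [rootGL_apply har, if_neg, if_pos (Fin.rev_rev p), if_pos rfl, if_pos (Fin.rev_rev p),
              Fin.rev_rev]
            · rw [ha p (Or.inl le_rfl), show oqQ m K a = 0 from oqQ_single _]; simp
            · intro x; have := congrArg Fin.val x; rw [Fin.val_rev] at this; omega
      · show ((rootGL p a : GL (Fin (2 * (m + 1))) K) : Matrix _ _ K) p (dSg m (.inr hh) (dPt m (.inr hh))) ≠ 0
        rw [dSg_inr_pt, rootGL_apply har, if_neg, if_neg, if_pos rfl, if_neg]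
        · simp [a]
        all_goals intro x; have := congrArg Fin.val x; simp [mid, Fin.val_rev] at this; omega

/-- The isometries of the hyperbolic form as matrices. -/
noncomputable def plusHom : Cfsg.isometryGroup K (Cfsg.quadFormPlus (m + 1) K) →* GL (Fin (2 * (m + 1))) K :=
  (orGL m K).toMonoidHom.comp (Cfsg.isometryGroup K (Cfsg.quadFormPlus (m + 1) K)).subtype

theorem plusHom_range : (plusHom (m := m) (K := K)).range = orth m K := by
  rw [plusHom, MonoidHom.range_comp, Subgroup.range_subtype]
  rfl

theorem exists_steinberg_pomega_plus (h : Nat.card K ≠ 2 ∨ m + 1 ≠ 2) (p : ℕ) [Fact p.Prime] [CharP K p] :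
    ∃ χ : Cfsg.POmega K (Cfsg.quadFormPlus (m + 1) K) → ℂ,
      Cfsg.IsIrrCharacter (Cfsg.POmega K (Cfsg.quadFormPlus (m + 1) K)) χ ∧
        ∀ P : Sylow p (Cfsg.POmega K (Cfsg.quadFormPlus (m + 1) K)), χ 1 = Nat.card P ∧
          ∀ x : Cfsg.POmega K (Cfsg.quadFormPlus (m + 1) K), x ∈ P → x ≠ 1 → χ x = 0 := by
  let f := (plusHom (m := m) (K := K)).comp
    (commutator (Cfsg.isometryGroup K (Cfsg.quadFormPlus (m + 1) K))).subtype
  have hf : f.range = omg m K := by rw [range_comp_commutator, plusHom_range]; rfl
  exact exists_steinberg_of_model p f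
    (fun x y e => Subtype.ext (Subtype.ext ((orGL m K).injective e))) (C := combPlus m)
    (hf ▸ plus_model h)

end CfsgLib.StGen
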