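import Cfsg.Agent.QuadStd.OFourTwo
import Cfsg.Agent.Blocks.DefectZeroVanish
import Cfsg.Agent.Char.GaloisConjugateDegrees
import Cfsg.Agent.Char.Orthogonality
import Mathlib.Data.ZMod.Basic

/-!
# The Steinberg character in the exceptional case `PΩ⁺₄(2)`
-/

set_option autoImplicit false
set_option linter.unusedSectionVars false
set_option linter.style.haveILetI false

namespace CfsgLib.StGen.PlusTwo

open CfsgLib.QuadStd.OFour CfsgLib.Char

/-- The conclusion for a group. -/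
def HasSt (p : ℕ) (G : Type*) [Group G] : Prop :=
  ∃ χ : G → ℂ, Cfsg.IsIrrCharacter G χ ∧
    ∀ P : Sylow p G, χ 1 = Nat.card P ∧ ∀ x : G, x ∈ P → x ≠ 1 → χ x = 0

theorem HasSt.congr {p : ℕ} [Fact p.Prime] {G H : Type*} [Group G] [Group H] [Finite H] (e : G ≃* H)
    (h : HasSt p H) : HasSt p G := by
  obtain ⟨χ, hχ, hP⟩ := h
  haveI : Finite G := Finite.of_equiv _ e.symm.toEquiv
  refine ⟨fun x => χ (e x), IsIrrCharacter.comp_surjective hχ e.toMonoidHom e.surjective, fun P => ?_⟩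
  let Q : Sylow p H := P.mapSurjective (f := e.toMonoidHom) e.surjective
  have hQ : ∀ x, e x ∈ Q ↔ x ∈ P := fun x => by
    show e x ∈ ((P : Subgroup _).map e.toMonoidHom) ↔ _
    exact Subgroup.mem_map_iff_mem e.injective
  have hcard : Nat.card Q = Nat.card P :=
    Nat.card_congr ((P : Subgroup _).equivMapOfInjective e.toMonoidHom e.injective).toEquiv.symm
  refine ⟨?_, fun x hx hx1 => (hP Q).2 _ ((hQ x).2 hx) fun h => hx1 (e.injective (h.trans (map_one e).symm))⟩
  show χ (e 1) = _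
  rw [map_one, (hP Q).1, hcard]

/-- The symmetric group of degree three. -/
abbrev S3 : Type := Equiv.Perm (Fin 3)

theorem exists_deg_two : ∃ χ : S3 → ℂ, Cfsg.IsIrrCharacter S3 χ ∧ χ 1 = 2 := by
  classical
  have hna : ¬ IsMulCommutative S3 := fun h => by
    have := h.is_comm.comm (Equiv.swap (0 : Fin 3) 1) (Equiv.swap (1 : Fin 3) 2)
    revert this
    decide
  obtain ⟨χ, hχ, hne⟩ := CfsgLib.EqualDegree.exists_nonlinear hna
  obtain ⟨d, hd0, hd⟩ := IsIrrCharacter.exists_degree hχ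
  have hsum := sum_degree_sq (G := S3)
  have hle : ((d : ℕ) ^ 2 : ℕ) ≤ Nat.card S3 - 1 := by
    have h1 : (fun _ => (1 : ℂ)) ∈ irrFinset S3 := mem_irrFinset.2 isIrrCharacter_one
    have hχ1 : χ ≠ fun _ => (1 : ℂ) := fun e => hne (by rw [e])
    choose f hf0 hf using fun (ψ : {ψ // ψ ∈ irrFinset S3}) =>
      IsIrrCharacter.exists_degree (mem_irrFinset.1 ψ.2)
    have hcast : ((∑ ψ : {ψ // ψ ∈ irrFinset S3}, f ψ ^ 2 : ℕ) : ℂ) = (Nat.card S3 : ℂ) := by
      rw [← hsum, ← Finset.sum_coe_sort (irrFinset S3)]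
      push_cast
      exact Finset.sum_congr rfl fun ψ _ => by rw [hf ψ]
    have hnat := Nat.cast_injective (R := ℂ) hcast
    have h2 := Finset.sum_le_sum_of_subset (f := fun ψ => f ψ ^ 2)
      (show ({⟨_, h1⟩, ⟨χ, mem_irrFinset.2 hχ⟩} : Finset {ψ // ψ ∈ irrFinset S3}) ⊆ Finset.univ from
        Finset.subset_univ _)
    rw [Finset.sum_pair (fun e => hχ1 (congrArg Subtype.val e).symm), hnat] at h2
    have e1 : f ⟨_, h1⟩ = 1 := by
      have : ((f ⟨_, h1⟩ : ℕ) : ℂ) = ((1 : ℕ) : ℂ) := by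
        rw [← hf ⟨_, h1⟩, Nat.cast_one]
      exact_mod_cast this
    have e2 : f ⟨χ, mem_irrFinset.2 hχ⟩ = d := by
      have := (hf ⟨χ, mem_irrFinset.2 hχ⟩).symm.trans hd
      exact_mod_cast this
    rw [e1, e2] at h2
    omega
  rw [Nat.card_perm, Nat.card_fin] at hle
  have hd2 : d = 2 := by
    have : d ≤ 2 := by
      by_contra hc
      have : 9 ≤ d ^ 2 := by nlinarith
      norm_num [Nat.factorial] at hle
      omega
    have : d ≠ 1 := fun e => hne (by rw [hd, e]; simp)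
    omega
  exact ⟨χ, hχ, by rw [hd, hd2]; simp⟩

/-- Pairs of equal sign. -/
def Kp : Subgroup (S3 × S3) where
  carrier := {p | Equiv.Perm.sign p.1 = Equiv.Perm.sign p.2}
  one_mem' := rfl
  mul_mem' {a b} ha hb := by
    simp only [Set.mem_setOf_eq] at *
    simp only [Prod.fst_mul, Prod.snd_mul, map_mul, ha, hb]
  inv_mem' {a} ha := by
    simp only [Set.mem_setOf_eq] at *
    simp only [Prod.fst_inv, Prod.snd_inv, map_inv, ha]

instance : DecidablePred (· ∈ Kp) := fun p =>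
  inferInstanceAs (Decidable (Equiv.Perm.sign p.1 = Equiv.Perm.sign p.2))

theorem card_Kp : Nat.card Kp = 18 := by
  rw [Nat.card_eq_fintype_card, Fintype.card_subtype]
  decide +kernel

theorem center_Kp : Subgroup.center Kp = ⊥ := by
  refine (Subgroup.eq_bot_iff_forall _).2 fun z hz => ?_
  have h : ∀ z : S3 × S3, z ∈ Kp → (∀ w : S3 × S3, w ∈ Kp → w * z = z * w) → z = 1 := by decide +kernel
  exact Subtype.ext (h z z.2 fun w hw => congrArg Subtype.val (Subgroup.mem_center_iff.1 hz ⟨w, hw⟩))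

theorem hasSt_Kp : HasSt 2 Kp := by
  haveI : Fact (Nat.Prime 2) := ⟨Nat.prime_two⟩
  obtain ⟨χ, hχ, hd⟩ := exists_deg_two
  let f : Kp →* S3 := (MonoidHom.fst S3 S3).comp Kp.subtype
  have hf : Function.Surjective f := fun s => ⟨⟨(s, s), rfl⟩, rfl⟩
  have hφ : Cfsg.IsIrrCharacter Kp (fun x => χ (f x)) := IsIrrCharacter.comp_surjective hχ f hf
  have hfac : (Nat.card Kp).factorization 2 = 1 := by
    rw [card_Kp, show (18 : ℕ) = 2 * 9 from rfl, Nat.factorization_mul (by norm_num) (by norm_num),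
      Finsupp.add_apply, Nat.Prime.factorization_self Nat.prime_two,
      Nat.factorization_eq_zero_of_not_dvd (by norm_num)]
  refine ⟨_, hφ, fun P => ⟨?_, fun x hx hx1 => ?_⟩⟩
  · show χ (f 1) = _
    rw [map_one, hd, P.card_eq_multiplicity, hfac]
    simp
  · refine CfsgLib.Block.eq_zero_of_defectZero Nat.prime_two ⟨_, hφ⟩ (dvd_of_eq ?_) ?_
    · rw [hfac, Cfsg.charDegree, show ((⟨_, hφ⟩ : Cfsg.IrrCharacter Kp) : Kp → ℂ) 1 = ((2 : ℕ) : ℂ) by
        show χ (f 1) = _
        rw [map_one, hd]; simp, Complex.natCast_re, Nat.floor_natCast, pow_one]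
    · obtain ⟨k, hk⟩ := IsPGroup.iff_orderOf.1 P.2 ⟨_, hx⟩
      rw [Subgroup.orderOf_mk] at hk
      have hk0 : k ≠ 0 := fun e => hx1 (orderOf_eq_one_iff.1 (by rw [hk, e, pow_zero]))
      exact hk ▸ dvd_pow_self 2 hk0

/-- The vectors of value one. -/
abbrev Six : Type := {v : V4 // Cfsg.quadFormPlus 2 (ZMod 2) v = 1}

theorem six_mem (g : G4) (v : Six) :
    Cfsg.quadFormPlus 2 (ZMod 2) (Matrix.mulVec ((g.1 : GL (Fin 2 ⊕ Fin 2) (ZMod 2)) :
      Matrix (Fin 2 ⊕ Fin 2) (Fin 2 ⊕ Fin 2) (ZMod 2)) v.1) = 1 := by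
  refine Eq.trans ?_ v.2
  exact g.2 v.1 v.1

/-- The action on the six anisotropic vectors. -/
def sixMap (g : G4) (v : Six) : Six :=
  ⟨Matrix.mulVec ((g.1 : GL (Fin 2 ⊕ Fin 2) (ZMod 2)) : Matrix (Fin 2 ⊕ Fin 2) (Fin 2 ⊕ Fin 2) (ZMod 2)) v.1,
    six_mem g v⟩

theorem sixMap_mul (g h : G4) (v : Six) : sixMap (g * h) v = sixMap g (sixMap h v) := by
  refine Subtype.ext ?_
  exact (Matrix.mulVec_mulVec v.1 ((g.1 : GL (Fin 2 ⊕ Fin 2) (ZMod 2)) :
    Matrix (Fin 2 ⊕ Fin 2) (Fin 2 ⊕ Fin 2) (ZMod 2)) _).symm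

theorem sixMap_one (v : Six) : sixMap 1 v = v := by
  refine Subtype.ext ?_
  exact Matrix.one_mulVec v.1

/-- The permutation representation on the six anisotropic vectors. -/
def sixHom : G4 →* Equiv.Perm Six where
  toFun g :=
    { toFun := sixMap g
      invFun := sixMap g⁻¹
      left_inv := fun v => by rw [← sixMap_mul, inv_mul_cancel, sixMap_one]
      right_inv := fun v => by rw [← sixMap_mul, mul_inv_cancel, sixMap_one] }
  map_one' := Equiv.ext fun v => sixMap_one v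
  map_mul' g h := Equiv.ext fun v => sixMap_mul g h v

theorem sign_six : ∀ p : S3 × S3,
    Equiv.Perm.sign (α := Six) (sixHom (homAB p)) = Equiv.Perm.sign p.1 * Equiv.Perm.sign p.2 := by
  have hA : ∀ σ : S3, Equiv.Perm.sign (α := Six) (sixHom (homA σ)) = Equiv.Perm.sign σ := by decide +kernel
  have hB : ∀ σ : S3, Equiv.Perm.sign (α := Six) (sixHom (homB σ)) = Equiv.Perm.sign σ := by decide +kernel
  intro p
  rw [homAB, MonoidHom.noncommCoprod_apply, map_mul, map_mul, hA, hB]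

theorem commutator_eq : commutator G4 = Kp.map homAB := by
  obtain ⟨-, A, B, -, -, -, -, hidx, -⟩ := main
  have hN : homAB.range.index = 2 := by
    have hc : Nat.card homAB.range = 36 := by
      rw [← Nat.card_congr (MonoidHom.ofInjective homAB_injective).toEquiv, Nat.card_prod, Nat.card_perm,
        Nat.card_fin]
      rfl
    have := Subgroup.card_mul_index homAB.range
    rw [hc, card_G4] at this
    omega
  haveI := Subgroup.normal_of_index_eq_two hN
  refine le_antisymm (fun g hg => ?_) ?_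
  · have h1 : g ∈ homAB.range := by
      have : commutator G4 ≤ homAB.range := by
        rw [commutator_def, Subgroup.commutator_le]
        intro a _ b _
        have hcard : Nat.card (G4 ⧸ homAB.range) = 2 := hN
        haveI : IsCyclic (G4 ⧸ homAB.range) := isCyclic_of_prime_card (hp := ⟨Nat.prime_two⟩) hcard
        rw [← QuotientGroup.eq_one_iff, commutatorElement_def, QuotientGroup.mk_mul, QuotientGroup.mk_mul,
          QuotientGroup.mk_mul, QuotientGroup.mk_inv, QuotientGroup.mk_inv]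
        letI := IsCyclic.commGroup (α := G4 ⧸ homAB.range)
        rw [mul_comm (a : G4 ⧸ homAB.range) b, mul_inv_cancel_right, mul_inv_cancel]
      exact this hg
    obtain ⟨p, rfl⟩ := h1
    refine ⟨p, ?_, rfl⟩
    have h2 := MonoidHom.mem_ker.1 (Abelianization.commutator_subset_ker (Equiv.Perm.sign.comp sixHom) hg)
    rw [MonoidHom.comp_apply, sign_six] at h2
    show Equiv.Perm.sign p.1 = Equiv.Perm.sign p.2
    rcases Int.units_eq_one_or (Equiv.Perm.sign p.1) with e | e <;>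
      rcases Int.units_eq_one_or (Equiv.Perm.sign p.2) with e' | e' <;> rw [e, e'] at h2 ⊢ <;>
      first | rfl | exact absurd h2 (by decide)
  · rintro _ ⟨⟨σ, τ⟩, hp, rfl⟩
    have hA3 : ∀ s : S3, Equiv.Perm.sign s = 1 → ∃ a b : S3, s = a * b * a⁻¹ * b⁻¹ := by decide +kernel
    have h1 : homAB (σ * τ, 1) ∈ commutator G4 := by
      obtain ⟨a, b, e⟩ := hA3 (σ * τ) (by
        rw [map_mul, show Equiv.Perm.sign σ = Equiv.Perm.sign τ from hp, Int.units_mul_self])
      rw [e, show ((a * b * a⁻¹ * b⁻¹, 1) : S3 × S3) = (a, 1) * (b, 1) * (a, 1)⁻¹ * (b, 1)⁻¹ by simp,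
        map_mul, map_mul, map_mul, map_inv, map_inv]
      exact Subgroup.commutator_mem_commutator (Subgroup.mem_top _) (Subgroup.mem_top _)
    have h2 : homAB (τ⁻¹, τ) ∈ commutator G4 := by
      have hs : swapG * homA τ * swapG⁻¹ = homB τ := Subtype.ext (Units.ext (swap_conj τ))
      have e : homAB (τ⁻¹, τ) = ((homA τ)⁻¹ * swapG * ((homA τ)⁻¹)⁻¹ * swapG⁻¹) := by
        rw [homAB, MonoidHom.noncommCoprod_apply, map_inv, inv_inv, ← hs]
        group
      rw [e]
      exact Subgroup.commutator_mem_commutator (Subgroup.mem_top _) (Subgroup.mem_top _)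
    have := mul_mem h1 h2
    rw [← map_mul, Prod.mk_mul_mk, mul_inv_cancel_right, one_mul] at this
    exact this

theorem hasSt_pomega_zmod :
    HasSt 2 (Cfsg.POmega (ZMod 2) (Cfsg.quadFormPlus 2 (ZMod 2))) := by
  haveI : Fact (Nat.Prime 2) := ⟨Nat.prime_two⟩
  let e : Cfsg.Omega (ZMod 2) (Cfsg.quadFormPlus 2 (ZMod 2)) ≃* Kp :=
    (MulEquiv.subgroupCongr commutator_eq).trans (Kp.equivMapOfInjective homAB homAB_injective).symm
  have hmap : (Subgroup.center (Cfsg.Omega (ZMod 2) (Cfsg.quadFormPlus 2 (ZMod 2)))).map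
      (e : _ →* Kp) = Subgroup.center Kp := by
    refine le_antisymm ?_ ?_
    · rintro _ ⟨z, hz, rfl⟩
      refine Subgroup.mem_center_iff.2 fun w => ?_
      obtain ⟨v, rfl⟩ := e.surjective w
      show e v * e z = e z * e v
      rw [← map_mul, ← map_mul, Subgroup.mem_center_iff.1 hz]
    · rw [center_Kp]; exact bot_le
  exact HasSt.congr (((QuotientGroup.congr _ _ e hmap).trans
    (QuotientGroup.quotientMulEquivOfEq center_Kp)).trans QuotientGroup.quotientBot) hasSt_Kp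

theorem hasSt_pomega {K : Type*} [Field K] [Finite K] (h : Nat.card K = 2) :
    HasSt 2 (Cfsg.POmega K (Cfsg.quadFormPlus 2 K)) := by
  haveI : Fact (Nat.Prime 2) := ⟨Nat.prime_two⟩
  haveI := Fintype.ofFinite K
  let r : K ≃+* ZMod 2 := (ZMod.ringEquivOfPrime K Nat.prime_two (by rw [← Nat.card_eq_fintype_card, h])).symm
  let ρ : GL (Fin 2 ⊕ Fin 2) K ≃* GL (Fin 2 ⊕ Fin 2) (ZMod 2) :=
    Units.mapEquiv (RingEquiv.mapMatrix r).toMulEquiv
  have hq : ∀ v : Fin 2 ⊕ Fin 2 → K,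
      Cfsg.quadFormPlus 2 (ZMod 2) (fun i => r (v i)) = r (Cfsg.quadFormPlus 2 K v) := fun v => by
    simp [Cfsg.quadFormPlus]
  have hmv : ∀ (x : GL (Fin 2 ⊕ Fin 2) K) (v : Fin 2 ⊕ Fin 2 → K),
      ((ρ x : GL (Fin 2 ⊕ Fin 2) (ZMod 2)) : Matrix (Fin 2 ⊕ Fin 2) (Fin 2 ⊕ Fin 2) (ZMod 2)).mulVec (fun i => r (v i)) =
        fun i => r ((x : Matrix (Fin 2 ⊕ Fin 2) (Fin 2 ⊕ Fin 2) K).mulVec v i) := fun x v => by
    funext i
    exact (RingHom.map_mulVec r.toRingHom (x : Matrix (Fin 2 ⊕ Fin 2) (Fin 2 ⊕ Fin 2) K) v i).symm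
  have hmem : ∀ x, ρ x ∈ Cfsg.isometryGroup (ZMod 2) (Cfsg.quadFormPlus 2 (ZMod 2)) ↔
      x ∈ Cfsg.isometryGroup K (Cfsg.quadFormPlus 2 K) := by
    intro x
    constructor
    · intro hx v _
      have h0 : Cfsg.quadFormPlus 2 (ZMod 2)
          (((ρ x : GL (Fin 2 ⊕ Fin 2) (ZMod 2)) : Matrix (Fin 2 ⊕ Fin 2) (Fin 2 ⊕ Fin 2) (ZMod 2)).mulVec fun i => r (v i)) = _ :=
        hx (fun i => r (v i)) (fun i => r (v i))
      simp only [hmv, hq] at h0
      exact r.injective h0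
    · intro hx v _
      obtain ⟨u, rfl⟩ : ∃ u : Fin 2 ⊕ Fin 2 → K, (fun i => r (u i)) = v := ⟨fun i => r.symm (v i), by simp⟩
      show Cfsg.quadFormPlus 2 (ZMod 2) (Matrix.mulVec ((ρ x : GL (Fin 2 ⊕ Fin 2) (ZMod 2)) :
        Matrix (Fin 2 ⊕ Fin 2) (Fin 2 ⊕ Fin 2) (ZMod 2)) fun i => r (u i)) =
        Cfsg.quadFormPlus 2 (ZMod 2) fun i => r (u i)
      rw [hmv, hq, hq]
      exact congrArg r (hx u u)
  let E : Cfsg.isometryGroup K (Cfsg.quadFormPlus 2 K) ≃* G4 :=
    (ρ.subgroupMap _).trans (MulEquiv.subgroupCongr (Subgroup.ext fun y => by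
      obtain ⟨x, rfl⟩ := ρ.surjective y
      rw [hmem]
      exact Subgroup.mem_map_iff_mem ρ.injective))
  have hΩ : (Cfsg.Omega K (Cfsg.quadFormPlus 2 K)).map (E : _ →* G4) =
      Cfsg.Omega (ZMod 2) (Cfsg.quadFormPlus 2 (ZMod 2)) := by
    show (commutator _).map _ = commutator G4
    rw [commutator_def, commutator_def, Subgroup.map_commutator,
      Subgroup.map_top_of_surjective _ E.surjective]
  let e := (E.subgroupMap _).trans (MulEquiv.subgroupCongr hΩ)
  have hmap : (Subgroup.center (Cfsg.Omega K (Cfsg.quadFormPlus 2 K))).map e.toMonoidHom =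
      Subgroup.center (Cfsg.Omega (ZMod 2) (Cfsg.quadFormPlus 2 (ZMod 2))) := by
    refine le_antisymm ?_ ?_
    · rintro _ ⟨z, hz, rfl⟩
      refine Subgroup.mem_center_iff.2 fun w => ?_
      obtain ⟨v, rfl⟩ := e.surjective w
      show e v * e z = e z * e v
      rw [← map_mul, ← map_mul, Subgroup.mem_center_iff.1 hz]
    · intro w hw
      obtain ⟨v, rfl⟩ := e.surjective w
      refine ⟨v, Subgroup.mem_center_iff.2 fun u => e.injective ?_, rfl⟩
      rw [map_mul, map_mul, Subgroup.mem_center_iff.1 hw]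
  exact HasSt.congr (QuotientGroup.congr _ _ e hmap) hasSt_pomega_zmod

end CfsgLib.StGen.PlusTwo
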