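import Cfsg.Agent.StClassical.Perm
import Mathlib.GroupTheory.Perm.Sign

/-!
# Combinatorial data of root systems realised by permutations, and the types D and twisted D
-/

set_option autoImplicit false
set_option linter.unusedVariables false

namespace CfsgLib.StGen

open CfsgLib.StClassical

variable {n : ℕ}

/-- A Weyl group realised by permutations of the coordinates. -/
structure Comb (n : ℕ) where
  I : Type
  finI : Finite I
  ok : Equiv.Perm (Fin n) → Prop
  ok_mul : ∀ {π τ}, ok π → ok τ → ok (π * τ)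
  sg : I → Equiv.Perm (Fin n)
  ok_sg : ∀ i, ok (sg i)
  sg_sg : ∀ i, sg i * sg i = 1
  inj : Function.Injective sg
  pt : I → Fin n
  pt_lt : ∀ i, pt i < sg i (pt i)
  lab : I → Fin n → ℕ
  lab_sg : ∀ i j, lab i (sg i j) = lab i j
  eq_or_eq : ∀ i {π}, ok π → (∀ j, lab i (π j) = lab i j) → π = 1 ∨ π = sg i
  rel : I → Fin n → Fin n → Prop
  asc : ∀ i {π}, ok π → π (pt i) < π (sg i (pt i)) → ∀ j k, j < k → rel i j k → π j < π k
  wt : Equiv.Perm (Fin n) → ℕ
  wt_lt : ∀ i {π}, ok π → π (sg i (pt i)) < π (pt i) → wt (π * sg i) < wt π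
  w0 : Equiv.Perm (Fin n)
  exists_descent : ∀ {π}, ok π → π ≠ 1 → ∃ i, π (sg i (pt i)) < π (pt i)
  exists_ascent : ∀ {π}, ok π → π ≠ w0 → ∃ i, π (pt i) < π (sg i (pt i))

theorem Comb.sg_apply_apply (C : Comb n) (i : C.I) (j : Fin n) : C.sg i (C.sg i j) = j :=
  Equiv.congr_fun (C.sg_sg i) j

theorem weight_lt' {π σ : Equiv.Perm (Fin n)} (hσ : ∀ j, σ (σ j) = j) (hne : ∃ j, σ j ≠ j)
    (hasc : ∀ j, j < σ j → π (σ j) < π j) : weight π < weight (π * σ) := by
  have h2 : 2 * (weight (π * σ) - weight π) =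
      ∑ j, (((π (σ j) : Fin n) : ℤ) - (π j : Fin n)) * ((j : ℕ) - ((σ j : Fin n) : ℕ) : ℤ) := by
    have e1 : weight π = ∑ j, ((π (σ j) : Fin n) : ℤ) * ((σ j : Fin n) : ℕ) :=
      (Equiv.sum_comp σ fun j => ((π j : Fin n) : ℤ) * (j : ℕ)).symm
    have e2 : weight (π * σ) = ∑ j, ((π j : Fin n) : ℤ) * ((σ j : Fin n) : ℕ) := by
      rw [weight, ← Equiv.sum_comp σ]
      exact Finset.sum_congr rfl fun j _ => by rw [Equiv.Perm.mul_apply, hσ]
    rw [two_mul]
    conv_lhs => arg 2; rw [e2, e1]
    rw [weight, weight]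
    simp only [Equiv.Perm.mul_apply, ← Finset.sum_sub_distrib, ← Finset.sum_add_distrib]
    exact Finset.sum_congr rfl fun j _ => by ring
  have hpos : ∀ j, σ j ≠ j →
      0 < (((π (σ j) : Fin n) : ℤ) - (π j : Fin n)) * ((j : ℕ) - ((σ j : Fin n) : ℕ) : ℤ) := by
    intro j hj
    rcases lt_or_gt_of_ne hj with h | h
    · have := hasc (σ j) (by rw [hσ]; exact h)
      rw [hσ, Fin.lt_def] at this
      rw [Fin.lt_def] at h
      exact mul_pos (by omega) (by omega)
    · have := hasc j h
      rw [Fin.lt_def] at this h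
      exact mul_pos_of_neg_of_neg (by omega) (by omega)
  have hsum : 0 < ∑ j, (((π (σ j) : Fin n) : ℤ) - (π j : Fin n)) * ((j : ℕ) - ((σ j : Fin n) : ℕ) : ℤ) := by
    obtain ⟨j, hj⟩ := hne
    refine Finset.sum_pos' (fun k _ => ?_) ⟨j, Finset.mem_univ _, hpos j hj⟩
    by_cases hk : σ k = k
    · rw [hk, sub_self, zero_mul]
    · exact (hpos k hk).le
  omega

/-- A bounded decreasing measure. -/
def wt (π : Equiv.Perm (Fin n)) : ℕ := ((n : ℤ) ^ 3 - weight π).toNat

theorem wt_lt' {π π' : Equiv.Perm (Fin n)} (h : weight π < weight π') : wt π' < wt π := by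
  have hbd : weight π' ≤ (n : ℤ) ^ 3 := by
    calc weight π' ≤ ∑ _j : Fin n, (n : ℤ) * n := Finset.sum_le_sum fun j _ => by
          have h1 := (π' j).isLt
          have h2 := j.isLt
          exact mul_le_mul (by omega) (by omega) (by omega) (by omega)
      _ = _ := by rw [Finset.sum_const, Finset.card_univ, Fintype.card_fin, nsmul_eq_mul]; ring
  unfold wt
  omega

section TypeD

variable (m : ℕ)

/-- The middle position on the left. -/
def mid : Fin (2 * (m + 1)) := ⟨m, by omega⟩

/-- The middle transposition. -/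
def tau : Equiv.Perm (Fin (2 * (m + 1))) := Equiv.swap (mid m) (Fin.rev (mid m))

theorem tau_apply (j : Fin (2 * (m + 1))) : ((tau m j : Fin (2 * (m + 1))) : ℕ) =
    if (j : ℕ) = m then m + 1 else if (j : ℕ) = m + 1 then m else (j : ℕ) := by
  have := j.isLt
  simp only [tau, Equiv.swap_apply_def, mid, Fin.ext_iff, Fin.val_rev]
  split_ifs <;> (try simp only [Fin.val_rev]) <;> omega

theorem tau_tau : tau m * tau m = 1 := Equiv.swap_mul_self _ _

theorem tau_tau_apply (j : Fin (2 * (m + 1))) : tau m (tau m j) = j := Equiv.swap_apply_self _ _ _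

theorem tau_rev : RevComm (tau m) := fun j => Fin.ext (by
  have := j.isLt
  simp only [Fin.val_rev, tau_apply]
  split_ifs <;> omega)

theorem sign_tau : Equiv.Perm.sign (tau m) = -1 :=
  Equiv.Perm.sign_swap (fun e => by have := congrArg Fin.val e; simp [mid, Fin.val_rev] at this; omega)

/-- The even signed permutations. -/
def OkD (π : Equiv.Perm (Fin (2 * (m + 1)))) : Prop := RevComm π ∧ Equiv.Perm.sign π = 1

theorem OkD.mul {π ρ : Equiv.Perm (Fin (2 * (m + 1)))} (h : OkD m π) (h' : OkD m ρ) : OkD m (π * ρ) :=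
  ⟨h.1.mul h'.1, by rw [map_mul, h.2, h'.2, one_mul]⟩

/-- The index of a reflection of type `B` below the last one. -/
def bIx (i : Fin m) : Ix (2 * (m + 1)) := ⟨i, by have := i.isLt; omega⟩

theorem bIx_lt (i : Fin m) : ((bIx m i : Ix (2 * (m + 1))) : ℕ) + 1 < 2 * (m + 1) / 2 := by
  have := i.isLt
  simp only [bIx]
  omega

theorem sign_sg (i : Fin m) : Equiv.Perm.sign (sg (bIx m i)) = 1 := by
  have := i.isLt
  rw [sg, if_pos (bIx_lt m i), map_mul, Equiv.Perm.sign_swap, Equiv.Perm.sign_swap]
  · rfl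
  all_goals
    intro e
    have := congrArg Fin.val e
    simp [pt, nx, bIx, Fin.val_rev] at this
    try omega

theorem eq_one_or_tau {π : Equiv.Perm (Fin (2 * (m + 1)))} (hc : RevComm π)
    (ha : ∀ i : Fin m, π (pt (bIx m i)) < π (sg (bIx m i) (pt (bIx m i))))
    (hb : ∀ i : Fin m, (i : ℕ) + 1 = m → π (pt (bIx m i)) < π (Fin.rev (mid m))) : π = 1 ∨ π = tau m := by
  have key : ∀ ρ : Equiv.Perm (Fin (2 * (m + 1))), RevComm ρ →
      (∀ i : Fin m, ρ (pt (bIx m i)) < ρ (sg (bIx m i) (pt (bIx m i)))) →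
      ρ (mid m) < ρ (Fin.rev (mid m)) → ρ = 1 := by
    intro ρ hρ h1 h2
    by_contra hne
    obtain ⟨i, hi⟩ := exists_descent hρ hne
    have hin := i.isLt
    by_cases him : (i : ℕ) < m
    · exact (h1 ⟨i, him⟩).asymm hi
    · have e1 : sg i (pt i) = Fin.rev (mid m) := Fin.ext (by
        rw [sg_pt, if_neg (by omega), Fin.val_rev]; simp only [mid]; omega)
      have e2 : pt i = mid m := Fin.ext (by simp only [pt, mid]; omega)
      rw [e1, e2] at hi
      exact h2.asymm hi
  rcases lt_trichotomy (π (mid m)) (π (Fin.rev (mid m))) with h | h | h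
  · exact Or.inl (key π hc ha h)
  · exact absurd (congrArg Fin.val (π.injective h)) (by simp [mid, Fin.val_rev]; omega)
  · refine Or.inr ?_
    have hk := key (π * tau m) (hc.mul (tau_rev m)) (fun i => ?_) (by
      simp only [Equiv.Perm.mul_apply, tau, Equiv.swap_apply_left, Equiv.swap_apply_right]; exact h)
    · rw [← mul_one (π), ← tau_tau m, ← mul_assoc, hk, one_mul]
    · have hi := i.isLt
      rw [Equiv.Perm.mul_apply, Equiv.Perm.mul_apply]
      have e1 : tau m (pt (bIx m i)) = pt (bIx m i) := Fin.ext (by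
        rw [tau_apply]; simp only [pt, bIx]; grind)
      rw [e1]
      by_cases him : (i : ℕ) + 1 = m
      · have e2 : tau m (sg (bIx m i) (pt (bIx m i))) = Fin.rev (mid m) := Fin.ext (by
          rw [tau_apply, sg_pt, if_pos (bIx_lt m i), Fin.val_rev]
          simp only [mid, bIx]
          grind)
        rw [e2]; exact hb i him
      · have e2 : tau m (sg (bIx m i) (pt (bIx m i))) = sg (bIx m i) (pt (bIx m i)) := Fin.ext (by
          rw [tau_apply, sg_pt, if_pos (bIx_lt m i)]
          simp only [bIx]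
          grind)
        rw [e2]; exact ha i

/-- The longest element. -/
def longD : Equiv.Perm (Fin (2 * (m + 1))) :=
  if Equiv.Perm.sign (Fin.revPerm : Equiv.Perm (Fin (2 * (m + 1)))) = 1 then Fin.revPerm
  else Fin.revPerm * tau m

theorem longD_cases : longD m = Fin.revPerm ∨ longD m = Fin.revPerm * tau m := by
  unfold longD
  split_ifs
  · exact Or.inl rfl
  · exact Or.inr rfl

theorem eq_longD {π : Equiv.Perm (Fin (2 * (m + 1)))} (hs : Equiv.Perm.sign π = 1)
    (h : Fin.revPerm * π = 1 ∨ Fin.revPerm * π = tau m) : π = longD m := by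
  have hrr : (Fin.revPerm : Equiv.Perm (Fin (2 * (m + 1)))) * Fin.revPerm = 1 :=
    Equiv.ext fun j => by simp
  have e : π = Fin.revPerm * (Fin.revPerm * π) := by rw [← mul_assoc, hrr, one_mul]
  rcases h with h | h <;> rw [h] at e
  · rw [mul_one] at e
    rw [e] at hs ⊢
    exact (if_pos hs).symm
  · rw [e] at hs ⊢
    rw [map_mul, sign_tau] at hs
    refine (if_neg fun h' => ?_).symm
    rw [h'] at hs
    exact absurd hs (by decide)

theorem eq_one_of_ok {π : Equiv.Perm (Fin (2 * (m + 1)))} (hs : Equiv.Perm.sign π = 1)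
    (h : π = 1 ∨ π = tau m) : π = 1 := by
  refine h.resolve_right fun e => ?_
  rw [e, sign_tau] at hs
  exact absurd hs (by decide)

/-! ### The split type -/

/-- The last index of type `B`. -/
def lastIx (h : 1 ≤ m) : Ix (2 * (m + 1)) := bIx m ⟨m - 1, by omega⟩

/-- The reflections of type `D`. -/
def dSg : Fin m ⊕ PLift (1 ≤ m) → Equiv.Perm (Fin (2 * (m + 1)))
  | .inl i => sg (bIx m i)
  | .inr h => tau m * sg (lastIx m h.down) * tau m

/-- The points of type `D`. -/
def dPt : Fin m ⊕ PLift (1 ≤ m) → Fin (2 * (m + 1))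
  | .inl i => pt (bIx m i)
  | .inr h => pt (lastIx m h.down)

/-- The blocks of type `D`. -/
def dLab : Fin m ⊕ PLift (1 ≤ m) → Fin (2 * (m + 1)) → ℕ
  | .inl i, j => lab (bIx m i) j
  | .inr h, j => lab (lastIx m h.down) (tau m j)

theorem tau_pt_last (h : 1 ≤ m) : tau m (pt (lastIx m h)) = pt (lastIx m h) := Fin.ext (by
  rw [tau_apply]; simp only [pt, lastIx, bIx]; grind)

theorem dSg_inr_pt (h : PLift (1 ≤ m)) :
    dSg m (.inr h) (dPt m (.inr h)) = Fin.rev (mid m) := Fin.ext (by
  have := h.down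
  show ((tau m (sg (lastIx m h.down) (tau m (pt (lastIx m h.down))))) : ℕ) = _
  rw [tau_pt_last, tau_apply, sg_pt, Fin.val_rev]
  simp only [lastIx, bIx, mid]
  grind)

theorem dSg_inr_apply (h : PLift (1 ≤ m)) (j : Fin (2 * (m + 1))) :
    ((dSg m (.inr h) j : Fin (2 * (m + 1))) : ℕ) =
      if (j : ℕ) + 1 = m then m + 1 else if (j : ℕ) = m + 1 then m - 1
      else if (j : ℕ) = m then m + 2 else if (j : ℕ) = m + 2 then m else (j : ℕ) := by
  have := h.down
  have := j.isLt
  show ((tau m (sg (lastIx m h.down) (tau m j)) : Fin (2 * (m + 1))) : ℕ) = _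
  have h1 := tau_apply m j
  generalize tau m j = x at h1 ⊢
  have h2 := sg_apply (lastIx m h.down) x
  rw [show ((lastIx m h.down : Ix (2 * (m + 1))) : ℕ) = m - 1 from rfl] at h2
  generalize sg (lastIx m h.down) x = y at h2 ⊢
  rw [tau_apply]
  grind

theorem tau_pres (h : 1 ≤ m) {j k : Fin (2 * (m + 1))} (hjk : j < k)
    (he : lab (lastIx m h) (tau m j) = lab (lastIx m h) (tau m k)) : tau m j < tau m k := by
  have hj := j.isLt
  have hk := k.isLt
  rw [Fin.lt_def] at hjk ⊢
  rw [tau_apply, tau_apply]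
  have e1 : ∀ x : Fin (2 * (m + 1)), lab (lastIx m h) x = if (x : ℕ) = m then m - 1 else
      if (x : ℕ) + m = 2 * (m + 1) then 2 * (m + 1) - 1 - m else (x : ℕ) := by
    intro x
    simp only [lab, lastIx, bIx]
    grind
  rw [e1, e1, tau_apply, tau_apply] at he
  split_ifs at he ⊢ <;> omega

theorem asc_lab {i : Fin m} {π : Equiv.Perm (Fin (2 * (m + 1)))} (hc : RevComm π)
    (h : π (pt (bIx m i)) < π (sg (bIx m i) (pt (bIx m i)))) {j k : Fin (2 * (m + 1))} (hjk : j < k)
    (hr : lab (bIx m i) j = lab (bIx m i) k) : π j < π k := by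
  refine asc_of_lt hc h j k hjk ?_
  have hi := i.isLt
  have hj := j.isLt
  have hk := k.isLt
  rw [Fin.lt_def] at hjk ⊢
  rw [sg_apply, sg_apply, if_pos (bIx_lt m i), if_pos (bIx_lt m i)]
  simp only [lab, bIx] at hr ⊢
  grind

theorem wt_lt_sg {i : Fin m} {π : Equiv.Perm (Fin (2 * (m + 1)))} (hc : RevComm π)
    (h : π (sg (bIx m i) (pt (bIx m i))) < π (pt (bIx m i))) : wt (π * sg (bIx m i)) < wt π :=
  wt_lt' (weight_lt (sg_apply_apply _) ⟨_, (pt_lt_sg _).ne'⟩ (asc_of_lt (hc.mul (sg_comm _)) (by
    rw [Equiv.Perm.mul_apply, Equiv.Perm.mul_apply, sg_apply_apply]; exact h)))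

/-- Type `D`. -/
def combPlus : Comb (2 * (m + 1)) where
  I := Fin m ⊕ PLift (1 ≤ m)
  finI := inferInstance
  ok := OkD m
  ok_mul h h' := OkD.mul m h h'
  sg := dSg m
  ok_sg := by
    rintro (i | h)
    · exact ⟨sg_comm _, sign_sg m i⟩
    · refine ⟨((tau_rev m).mul (sg_comm _)).mul (tau_rev m), ?_⟩
      show Equiv.Perm.sign (tau m * sg (lastIx m h.down) * tau m) = 1
      rw [map_mul, map_mul, sign_tau, lastIx, sign_sg]; decide
  sg_sg := by
    rintro (i | h)
    · exact sg_sg _
    · show tau m * sg _ * tau m * (tau m * sg _ * tau m) = 1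
      rw [show ∀ a b : Equiv.Perm (Fin (2 * (m + 1))), a * b * a * (a * b * a) = a * (b * (a * a) * b) * a by
        intros; group]
      rw [tau_tau, mul_one, sg_sg, mul_one, tau_tau]
  inj := by
    have key : ∀ (i : Fin m) (h : PLift (1 ≤ m)), dSg m (.inl i) ≠ dSg m (.inr h) := by
      intro i h e
      have := h.down
      have e' := congrArg Fin.val (Equiv.congr_fun e (dPt m (.inr h)))
      rw [dSg_inr_pt, Fin.val_rev] at e'
      simp only [dSg, dPt, sg_apply, pt, lastIx, bIx, mid] at e'
      have := i.isLt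
      split_ifs at e' <;> omega
    rintro (i | h) (j | h') e
    · exact congrArg Sum.inl (Fin.ext (congrArg Fin.val (sg_injective e) :))
    · exact absurd e (key i h')
    · exact absurd e.symm (key j h)
    · exact congrArg Sum.inr (Subsingleton.elim _ _)
  pt := dPt m
  pt_lt := by
    rintro (i | h)
    · exact pt_lt_sg _
    · rw [dSg_inr_pt, Fin.lt_def, Fin.val_rev]
      have := h.down
      simp only [dPt, pt, lastIx, bIx, mid]
      omega
  lab := dLab m
  lab_sg := by
    rintro (i | h) j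
    · exact lab_sg _ _
    · show lab _ (tau m (tau m (sg _ (tau m j)))) = _
      rw [tau_tau_apply, lab_sg]
      rfl
  eq_or_eq := by
    rintro (i | h) π hπ hlab
    · exact CfsgLib.StClassical.eq_or_eq hπ.1 hlab
    · have hρ : RevComm (tau m * π * tau m) := ((tau_rev m).mul hπ.1).mul (tau_rev m)
      have e : π = tau m * (tau m * π * tau m) * tau m := by
        rw [show ∀ a b : Equiv.Perm (Fin (2 * (m + 1))), a * (a * b * a) * a = (a * a) * b * (a * a) by
          intros; group, tau_tau, one_mul, mul_one]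
      rcases CfsgLib.StClassical.eq_or_eq (i := lastIx m h.down) hρ (fun j => by
        have := hlab (tau m j)
        simp only [dLab, tau_tau_apply] at this
        exact this) with h1 | h1
      · left; rw [e, h1, mul_one, tau_tau]
      · right; rw [e, h1]; rfl
  rel i j k := dLab m i j = dLab m i k
  asc := by
    rintro (i | h) π hπ hlt j k hjk hr
    · exact asc_lab m hπ.1 hlt hjk hr
    · have h' := asc_lab m (i := ⟨m - 1, by have := h.down; omega⟩) (hπ.1.mul (tau_rev m)) (by
        rw [Equiv.Perm.mul_apply, Equiv.Perm.mul_apply, show bIx m ⟨m - 1, _⟩ = lastIx m h.down from rfl,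
          tau_pt_last]
        simp only [dSg, dPt, Equiv.Perm.mul_apply, tau_pt_last] at hlt
        exact hlt) (tau_pres m h.down hjk hr) hr
      simpa [tau_tau_apply] using h'
  wt := wt
  wt_lt := by
    rintro (i | h) π hπ hlt
    · exact wt_lt_sg m hπ.1 hlt
    · refine wt_lt' (weight_lt' (fun j => ?_) ⟨dPt m (.inr h), ?_⟩ fun j hj => ?_)
      · show tau m (sg _ (tau m (tau m (sg _ (tau m j))))) = j
        rw [tau_tau_apply, sg_apply_apply, tau_tau_apply]
      · rw [dSg_inr_pt]
        intro e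
        have := congrArg Fin.val e
        have := h.down
        simp only [dPt, pt, lastIx, bIx, mid, Fin.val_rev] at *
        omega
      · have hm := h.down
        rw [dSg_inr_pt] at hlt
        have h2 : π (dSg m (.inr h) (mid m)) < π (mid m) := by
          have e1 : dSg m (.inr h) (mid m) = Fin.rev (dPt m (.inr h)) := Fin.ext (by
            rw [dSg_inr_apply, Fin.val_rev]
            simp only [mid, dPt, pt, lastIx, bIx]
            split_ifs <;> omega)
          rw [e1, ← Fin.rev_rev (mid m), hπ.1, hπ.1 (Fin.rev (mid m)), Fin.rev_lt_rev]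
          exact hlt
        have hj' : j = dPt m (.inr h) ∨ j = mid m := by
          have := j.isLt
          rw [Fin.lt_def] at hj
          rw [dSg_inr_apply] at hj
          simp only [Fin.ext_iff, dPt, pt, mid, lastIx, bIx]
          split_ifs at hj <;> omega
        rcases hj' with rfl | rfl
        · rw [dSg_inr_pt]; exact hlt
        · exact h2
  w0 := longD m
  exists_descent := by
    intro π hπ hne
    by_contra hno
    push Not at hno
    refine hne (eq_one_of_ok m hπ.2 (eq_one_or_tau m hπ.1 (fun i => ?_) fun i hi => ?_))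
    · exact lt_of_le_of_ne (hno (.inl i)) fun e => (pt_lt_sg _).ne (π.injective e)
    · have := hno (.inr ⟨by omega⟩)
      rw [dSg_inr_pt] at this
      have e : dPt m (.inr ⟨(show 1 ≤ m by omega)⟩) = pt (bIx m i) :=
        Fin.ext (show m - 1 = (i : ℕ) by omega)
      rw [e] at this
      refine lt_of_le_of_ne this fun e' => ?_
      have := congrArg Fin.val (π.injective e')
      simp [pt, bIx, mid, Fin.val_rev] at this
      omega
  exists_ascent := by
    intro π hπ hne
    by_contra hno
    push Not at hno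
    refine hne (eq_longD m hπ.2 (eq_one_or_tau m (RevComm.rev_perm.mul hπ.1) (fun i => ?_) fun i hi => ?_))
    · simp only [Equiv.Perm.mul_apply, Fin.revPerm_apply, Fin.rev_lt_rev]
      exact lt_of_le_of_ne (hno (.inl i)) fun e => (pt_lt_sg _).ne' (π.injective e)
    · have := hno (.inr ⟨by omega⟩)
      rw [dSg_inr_pt] at this
      have e : dPt m (.inr ⟨(show 1 ≤ m by omega)⟩) = pt (bIx m i) :=
        Fin.ext (show m - 1 = (i : ℕ) by omega)
      rw [e] at this
      simp only [Equiv.Perm.mul_apply, Fin.revPerm_apply, Fin.rev_lt_rev]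
      refine lt_of_le_of_ne this fun e' => ?_
      have := congrArg Fin.val (π.injective e')
      simp [pt, bIx, mid, Fin.val_rev] at this
      omega

/-! ### The twisted type -/

/-- Even signed permutations commuting with the middle transposition. -/
def OkM (π : Equiv.Perm (Fin (2 * (m + 1)))) : Prop := OkD m π ∧ ∀ j, π (tau m j) = tau m (π j)

theorem OkM.mid {π : Equiv.Perm (Fin (2 * (m + 1)))} (h : OkM m π) :
    π (StGen.mid m) = StGen.mid m ∨ π (StGen.mid m) = Fin.rev (StGen.mid m) := by
  have e := congrArg Fin.val (h.2 (StGen.mid m))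
  have e1 : tau m (StGen.mid m) = Fin.rev (StGen.mid m) := Equiv.swap_apply_left _ _
  rw [e1, h.1.1, tau_apply, Fin.val_rev] at e
  simp only [Fin.ext_iff, Fin.val_rev, StGen.mid]
  have := (π (StGen.mid m)).isLt
  simp only [StGen.mid] at e this
  grind

/-- The reflections of the twisted type. -/
def mSg (i : Fin m) : Equiv.Perm (Fin (2 * (m + 1))) :=
  if (i : ℕ) + 1 < m then sg (bIx m i)
  else Equiv.swap (pt (bIx m i)) (Fin.rev (pt (bIx m i))) * tau m

/-- The blocks of the twisted type. -/
def mLab (i : Fin m) (j : Fin (2 * (m + 1))) : ℕ :=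
  if (i : ℕ) + 1 < m then lab (bIx m i) j
  else if (i : ℕ) ≤ j ∧ (j : ℕ) + i + 1 ≤ 2 * (m + 1) then i else j

theorem mSg_apply (i : Fin m) (hi : ¬ (i : ℕ) + 1 < m) (j : Fin (2 * (m + 1))) :
    ((mSg m i j : Fin (2 * (m + 1))) : ℕ) =
      if (j : ℕ) = i then (i : ℕ) + 3 else if (j : ℕ) = i + 3 then (i : ℕ)
      else if (j : ℕ) = m then m + 1 else if (j : ℕ) = m + 1 then m else (j : ℕ) := by
  have := i.isLt
  have := j.isLt
  rw [mSg, if_neg hi]
  simp only [Equiv.Perm.mul_apply, Equiv.swap_apply_def, pt, bIx, Fin.ext_iff, Fin.val_rev, tau_apply]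
  split_ifs <;> simp only [Fin.val_rev, tau_apply] at * <;> (try split_ifs) <;> omega

theorem mSg_pt (i : Fin m) (hi : ¬ (i : ℕ) + 1 < m) :
    mSg m i (pt (bIx m i)) = Fin.rev (pt (bIx m i)) := Fin.ext (by
  have := i.isLt
  rw [mSg_apply m i hi, Fin.val_rev]
  simp only [pt, bIx, if_true]
  omega)

theorem okM_mSg (i : Fin m) : OkM m (mSg m i) := by
  have := i.isLt
  by_cases hi : (i : ℕ) + 1 < m
  · rw [mSg, if_pos hi]
    refine ⟨⟨sg_comm _, sign_sg m i⟩, fun j => Fin.ext ?_⟩
    have := j.isLt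
    simp only [sg_apply, tau_apply, if_pos (bIx_lt m i)]
    simp only [bIx]
    grind
  · refine ⟨⟨fun j => Fin.ext ?_, ?_⟩, fun j => Fin.ext ?_⟩
    · have := j.isLt
      simp only [mSg_apply m i hi, Fin.val_rev]
      split_ifs <;> omega
    · rw [mSg, if_neg hi, map_mul, sign_tau, Equiv.Perm.sign_swap]
      · decide
      · intro e
        have := congrArg Fin.val e
        simp [pt, bIx, Fin.val_rev] at this
        omega
    · have := j.isLt
      simp only [mSg_apply m i hi, tau_apply]
      split_ifs <;> omega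

theorem mSg_mSg (i : Fin m) : mSg m i * mSg m i = 1 := by
  by_cases hi : (i : ℕ) + 1 < m
  · rw [mSg, if_pos hi]; exact sg_sg _
  · refine Equiv.ext fun j => Fin.ext ?_
    have := i.isLt
    have := j.isLt
    simp only [Equiv.Perm.mul_apply, Equiv.Perm.one_apply, mSg_apply m i hi]
    split_ifs <;> omega

theorem pt_lt_mSg (i : Fin m) : pt (bIx m i) < mSg m i (pt (bIx m i)) := by
  by_cases hi : (i : ℕ) + 1 < m
  · rw [mSg, if_pos hi]; exact pt_lt_sg _
  · rw [Fin.lt_def, mSg_apply m i hi]
    simp [pt, bIx]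

theorem mSg_fix {i j : Fin m} (h : (i : ℕ) < j) : mSg m j (pt (bIx m i)) = pt (bIx m i) := by
  have := i.isLt
  have := j.isLt
  by_cases hj : (j : ℕ) + 1 < m
  · rw [mSg, if_pos hj]; exact sg_fix (by simpa [bIx] using h)
  · refine Fin.ext ?_
    rw [mSg_apply m j hj]
    simp only [pt, bIx]
    grind

/-- The measure of the twisted type. -/
def mWt (π : Equiv.Perm (Fin (2 * (m + 1)))) : ℕ :=
  if π (mid m) = mid m then wt π else wt (π * tau m)

theorem okM_descent {π : Equiv.Perm (Fin (2 * (m + 1)))} (hπ : OkM m π)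
    (hno : ∀ i : Fin m, π (pt (bIx m i)) < π (mSg m i (pt (bIx m i)))) :
    π = 1 ∨ π = tau m := by
  have hlast : ∀ i : Fin m, ¬ (i : ℕ) + 1 < m →
      π (pt (bIx m i)) < π (mid m) ∧ π (pt (bIx m i)) < π (Fin.rev (mid m)) := by
    intro i hi
    have h := hno i
    rw [mSg_pt m i hi, hπ.1.1, Fin.lt_def, Fin.val_rev] at h
    have h1 : ∀ x, x ≠ pt (bIx m i) → ((π x : Fin _) : ℕ) ≠ π (pt (bIx m i)) := fun x hx e =>
      hx (π.injective (Fin.ext e))
    have hlt := i.isLt
    have g1 := h1 (mid m) (fun e => by have := congrArg Fin.val e; simp [mid, pt, bIx] at this; omega)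
    have g2 := h1 (Fin.rev (mid m)) (fun e => by
      have := congrArg Fin.val e; simp [mid, pt, bIx, Fin.val_rev] at this; omega)
    rw [hπ.1.1 (mid m), Fin.val_rev] at g2
    rw [hπ.1.1 (mid m), Fin.lt_def, Fin.lt_def, Fin.val_rev]
    rcases hπ.mid with e | e <;> rw [e] at g1 g2 ⊢ <;> simp only [Fin.val_rev, mid] at g1 g2 ⊢ <;> omega
  refine eq_one_or_tau m hπ.1.1 (fun i => ?_) fun i hi => (hlast i (by omega)).2
  by_cases hi : (i : ℕ) + 1 < m
  · have := hno i
    rwa [mSg, if_pos hi] at this
  · have e : sg (bIx m i) (pt (bIx m i)) = mid m := Fin.ext (by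
      have := i.isLt
      rw [sg_pt, if_pos (bIx_lt m i)]; simp [mid, bIx]; omega)
    rw [e]; exact (hlast i hi).1

theorem okM_rev {π : Equiv.Perm (Fin (2 * (m + 1)))} (hπ : OkM m π) :
    RevComm ((Fin.revPerm : Equiv.Perm (Fin (2 * (m + 1)))) * π) ∧
      ∀ j, ((Fin.revPerm : Equiv.Perm (Fin (2 * (m + 1)))) * π) (tau m j) =
        tau m (((Fin.revPerm : Equiv.Perm (Fin (2 * (m + 1)))) * π) j) :=
  ⟨RevComm.rev_perm.mul hπ.1.1, fun j => by
    simp only [Equiv.Perm.mul_apply, Fin.revPerm_apply]
    rw [hπ.2, tau_rev m (π j)]⟩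

/-- Twisted type `D`. -/
def combMinus : Comb (2 * (m + 1)) where
  I := Fin m
  finI := inferInstance
  ok := OkM m
  ok_mul h h' := ⟨OkD.mul m h.1 h'.1, fun j => by simp only [Equiv.Perm.mul_apply, h'.2, h.2]⟩
  sg := mSg m
  ok_sg := okM_mSg m
  sg_sg := mSg_mSg m
  inj := by
    intro i j h
    rcases lt_trichotomy (i : ℕ) j with hl | hl | hl
    · exact absurd (pt_lt_mSg m i) (by rw [h, mSg_fix m hl]; exact lt_irrefl _)
    · exact Fin.ext hl
    · exact absurd (pt_lt_mSg m j) (by rw [← h, mSg_fix m hl]; exact lt_irrefl _)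
  pt i := pt (bIx m i)
  pt_lt := pt_lt_mSg m
  lab := mLab m
  lab_sg i j := by
    by_cases hi : (i : ℕ) + 1 < m
    · simp only [mLab, mSg, if_pos hi]; exact lab_sg _ _
    · have := i.isLt
      have := j.isLt
      simp only [mLab, if_neg hi, mSg_apply m i hi]
      split_ifs <;> omega
  eq_or_eq := by
    intro i π hπ hlab
    by_cases hi : (i : ℕ) + 1 < m
    · simp only [mLab, if_pos hi] at hlab
      simp only [mSg, if_pos hi]
      exact CfsgLib.StClassical.eq_or_eq hπ.1.1 hlab
    have hin := i.isLt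
    have key : ∀ ρ, OkM m ρ → (∀ j, mLab m i (ρ j) = mLab m i j) → ρ (pt (bIx m i)) = pt (bIx m i) →
        ρ = 1 := by
      intro ρ hρ hl hp
      refine eq_one_of_ok m hρ.1.2 (okM_descent m hρ fun k => ?_)
      have hfix : ∀ x : Fin (2 * (m + 1)), (x : ℕ) ≤ i → ρ x = x := by
        intro x hx
        rcases eq_or_lt_of_le hx with e | e
        · rw [show x = pt (bIx m i) from Fin.ext e]; exact hp
        · have := hl x
          have := (ρ x).isLt
          simp only [mLab, if_neg hi] at *
          refine Fin.ext ?_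
          split_ifs at * <;> omega
      have hk := k.isLt
      rw [hfix (pt (bIx m k)) (by simp only [pt, bIx]; omega)]
      by_cases hk' : (k : ℕ) + 1 < m
      · rw [hfix _ (by rw [mSg, if_pos hk', sg_pt, if_pos (bIx_lt m k)]; simp only [bIx]; omega)]
        exact pt_lt_mSg m k
      · rw [mSg_pt m k hk', hρ.1.1, hfix _ (by simp only [pt, bIx]; omega), ← mSg_pt m k hk']
        exact pt_lt_mSg m k
    have hP : π (pt (bIx m i)) = pt (bIx m i) ∨ π (pt (bIx m i)) = mSg m i (pt (bIx m i)) := by
      have h1 := hlab (pt (bIx m i))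
      have h2 := (π (pt (bIx m i))).isLt
      have h3 : ∀ x, x ≠ pt (bIx m i) → ((π x : Fin _) : ℕ) ≠ π (pt (bIx m i)) := fun x hx e =>
        hx (π.injective (Fin.ext e))
      have g1 := h3 (mid m) (fun e => by have := congrArg Fin.val e; simp [mid, pt, bIx] at this; omega)
      have g2 := h3 (Fin.rev (mid m)) (fun e => by
        have := congrArg Fin.val e; simp [mid, pt, bIx, Fin.val_rev] at this; omega)
      rw [hπ.1.1 (mid m), Fin.val_rev] at g2
      simp only [Fin.ext_iff, mSg_pt m i hi, Fin.val_rev]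
      simp only [mLab, if_neg hi] at h1
      rcases hπ.mid with e | e <;> rw [e] at g1 g2 <;>
        simp only [Fin.val_rev, mid, pt, bIx] at g1 g2 h1 ⊢ <;> grind
    rcases hP with e | e
    · exact Or.inl (key π hπ hlab e)
    · refine Or.inr ?_
      have hlm : ∀ j, mLab m i (mSg m i j) = mLab m i j := fun j => by
        have := j.isLt
        simp only [mLab, if_neg hi, mSg_apply m i hi]
        split_ifs <;> omega
      have hk := key (mSg m i * π) ⟨OkD.mul m (okM_mSg m i).1 hπ.1, fun j => by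
        simp only [Equiv.Perm.mul_apply, hπ.2, (okM_mSg m i).2]⟩
        (fun j => by rw [Equiv.Perm.mul_apply, hlm, hlab]) (by
          rw [Equiv.Perm.mul_apply, e]; exact Equiv.congr_fun (mSg_mSg m i) _)
      rw [← one_mul π, ← mSg_mSg m i, mul_assoc, hk, mul_one]
  rel i j k := mLab m i j = mLab m i k ∧ ¬ (j = mid m ∧ k = Fin.rev (mid m))
  asc := by
    rintro i π hπ hlt j k hjk ⟨hr, hnm⟩
    by_cases hi : (i : ℕ) + 1 < m
    · simp only [mLab, if_pos hi] at hr
      simp only [mSg, if_pos hi] at hlt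
      exact asc_lab m hπ.1.1 hlt hjk hr
    have hin := i.isLt
    have hj := j.isLt
    have hk := k.isLt
    rw [mSg_pt m i hi, hπ.1.1, Fin.lt_def, Fin.val_rev] at hlt
    simp only [mLab, if_neg hi] at hr
    rw [Fin.lt_def] at hjk ⊢
    simp only [Fin.ext_iff, Fin.val_rev, mid] at hnm
    have hq : ∀ x : Fin (2 * (m + 1)), ((x : ℕ) = m ∨ (x : ℕ) = m + 1) →
        ((π x : Fin _) : ℕ) = m ∨ ((π x : Fin _) : ℕ) = m + 1 := by
      intro x hx
      have : x = mid m ∨ x = Fin.rev (mid m) := by
        simp only [Fin.ext_iff, mid, Fin.val_rev]; omega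
      rcases this with rfl | rfl
      · rcases hπ.mid with e | e <;> rw [e] <;> simp [mid, Fin.val_rev] <;> omega
      · rw [hπ.1.1]
        rcases hπ.mid with e | e <;> rw [e] <;> simp [mid, Fin.val_rev] <;> omega
    have hpj : (j : ℕ) = i → π j = π (pt (bIx m i)) := fun e => congrArg π (Fin.ext e)
    have hpk : (k : ℕ) = i + 3 → π k = Fin.rev (π (pt (bIx m i))) := fun e => by
      rw [← hπ.1.1]; exact congrArg π (Fin.ext (by rw [Fin.val_rev]; simp only [pt, bIx]; omega))
    have hne1 : ((π (pt (bIx m i)) : Fin _) : ℕ) ≠ (π (mid m) : Fin _) := fun e => by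
      have := congrArg Fin.val (π.injective (Fin.ext e)); simp [mid, pt, bIx] at this; omega
    have hne2 : ((π (pt (bIx m i)) : Fin _) : ℕ) ≠ (π (Fin.rev (mid m)) : Fin _) := fun e => by
      have := congrArg Fin.val (π.injective (Fin.ext e)); simp [mid, pt, bIx, Fin.val_rev] at this; omega
    rw [hπ.1.1 (mid m), Fin.val_rev] at hne2
    have hp : ((π (pt (bIx m i)) : Fin _) : ℕ) < m := by
      have := (π (pt (bIx m i))).isLt
      rcases hπ.mid with e | e <;> rw [e] at hne1 hne2 <;> simp [mid, Fin.val_rev] at hne1 hne2 <;> omega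
    have hjc : (j : ℕ) = i ∨ (j : ℕ) = m ∨ (j : ℕ) = m + 1 := by split_ifs at hr <;> omega
    have hkc : (k : ℕ) = m ∨ (k : ℕ) = m + 1 ∨ (k : ℕ) = i + 3 := by split_ifs at hr <;> omega
    rcases hjc with e | e
    · rw [hpj e]
      rcases hkc with e' | e' | e'
      · rcases hq k (Or.inl e') with h' | h' <;> omega
      · rcases hq k (Or.inr e') with h' | h' <;> omega
      · rw [hpk e', Fin.val_rev]; omega
    · have h1 := hq j e
      have e' : (k : ℕ) = i + 3 := by omega
      rw [hpk e', Fin.val_rev]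
      omega
  wt := mWt m
  wt_lt := by
    intro i π hπ hlt
    by_cases hi : (i : ℕ) + 1 < m
    · simp only [mSg, if_pos hi] at hlt ⊢
      have e : sg (bIx m i) (mid m) = mid m := Fin.ext (by
        rw [sg_apply, if_pos (bIx_lt m i)]; simp only [bIx, mid]; grind)
      simp only [mWt, Equiv.Perm.mul_apply, e]
      split_ifs
      · exact wt_lt_sg m hπ.1.1 hlt
      · have hc : sg (bIx m i) * tau m = tau m * sg (bIx m i) :=
          Equiv.ext fun j => by
            have := ((okM_mSg m i).2 j)
            rw [mSg, if_pos hi] at this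
            exact this
        rw [mul_assoc, hc, ← mul_assoc]
        refine wt_lt_sg m (hπ.1.1.mul (tau_rev m)) ?_
        have e1 : ∀ x : Fin (2 * (m + 1)), (x : ℕ) < m → tau m x = x := fun x hx => Fin.ext (by
          rw [tau_apply]; split_ifs <;> omega)
        rw [Equiv.Perm.mul_apply, Equiv.Perm.mul_apply, e1 _ (by rw [sg_pt, if_pos (bIx_lt m i)]; simp [bIx]; omega),
          e1 _ (by simp [pt, bIx])]
        exact hlt
    · have hin := i.isLt
      have hσc : mSg m i (mid m) = Fin.rev (mid m) := Fin.ext (by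
        rw [mSg_apply m i hi, Fin.val_rev]; simp only [mid]; split_ifs <;> omega)
      have hsw : mSg m i = Equiv.swap (pt (bIx m i)) (Fin.rev (pt (bIx m i))) * tau m := if_neg hi
      set s := Equiv.swap (pt (bIx m i)) (Fin.rev (pt (bIx m i))) with hs
      have hst : ∀ x, (x = mid m ∨ x = Fin.rev (mid m)) → s x = x := fun x hx => by
        rcases hx with rfl | rfl <;> refine Equiv.swap_apply_of_ne_of_ne ?_ ?_ <;> intro e <;>
          have := congrArg Fin.val e <;> simp [mid, pt, bIx, Fin.val_rev] at this <;> omega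
      have hcomm : tau m * s = s * tau m := Equiv.ext fun j => by
        have := (okM_mSg m i).2 j
        rw [hsw] at this
        simp only [Equiv.Perm.mul_apply, tau_tau_apply] at this ⊢
        rw [this, tau_tau_apply]
      have hplain : ∀ ρ : Equiv.Perm (Fin (2 * (m + 1))),
          ρ (Fin.rev (pt (bIx m i))) < ρ (pt (bIx m i)) → wt (ρ * s) < wt ρ := by
        intro ρ hρ
        refine wt_lt' (weight_lt' (fun j => Equiv.swap_apply_self _ _ j) ⟨pt (bIx m i), ?_⟩ fun j hj => ?_)
        · rw [hs, Equiv.swap_apply_left]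
          intro e
          have := congrArg Fin.val e
          simp [pt, bIx, Fin.val_rev] at this
          omega
        · have e : j = pt (bIx m i) := by
            by_contra hne
            by_cases e' : j = Fin.rev (pt (bIx m i))
            · rw [e', hs, Equiv.swap_apply_right, Fin.lt_def, Fin.val_rev] at hj
              simp [pt, bIx] at hj
              omega
            · rw [hs, Equiv.swap_apply_of_ne_of_ne hne e'] at hj
              exact lt_irrefl _ hj
          rw [e, hs, Equiv.swap_apply_left]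
          exact hρ
      rw [mSg_pt m i hi] at hlt
      have htp : tau m (pt (bIx m i)) = pt (bIx m i) ∧ tau m (Fin.rev (pt (bIx m i))) = Fin.rev (pt (bIx m i)) := by
        constructor <;> refine Fin.ext ?_ <;> rw [tau_apply] <;> simp only [Fin.val_rev, pt, bIx] <;>
          grind
      rcases hπ.mid with e | e
      · have e' : (π * mSg m i) (mid m) ≠ mid m := by
          rw [Equiv.Perm.mul_apply, hσc, hπ.1.1, e]
          intro e'; have := congrArg Fin.val e'; simp [mid, Fin.val_rev] at this; omega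
        rw [mWt, if_neg e', mWt, if_pos e, hsw, mul_assoc, mul_assoc, tau_tau, mul_one]
        exact hplain π hlt
      · have e' : (π * mSg m i) (mid m) = mid m := by
          rw [Equiv.Perm.mul_apply, hσc, hπ.1.1, e, Fin.rev_rev]
        have e'' : π (mid m) ≠ mid m := by
          rw [e]; intro e'; have := congrArg Fin.val e'; simp [mid, Fin.val_rev] at this; omega
        rw [mWt, if_pos e', mWt, if_neg e'', hsw, ← hcomm, ← mul_assoc]
        refine hplain _ ?_
        rw [Equiv.Perm.mul_apply, Equiv.Perm.mul_apply, htp.1, htp.2]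
        exact hlt
  w0 := longD m
  exists_descent := by
    intro π hπ hne
    by_contra hno
    push Not at hno
    exact hne (eq_one_of_ok m hπ.1.2 (okM_descent m hπ fun i =>
      lt_of_le_of_ne (hno i) fun e => (pt_lt_mSg m i).ne (π.injective e)))
  exists_ascent := by
    intro π hπ hne
    by_contra hno
    push Not at hno
    obtain ⟨hc, ht⟩ := okM_rev m hπ
    refine hne (eq_longD m hπ.1.2 ?_)
    by_cases hs : Equiv.Perm.sign (Fin.revPerm * π) = 1
    · exact okM_descent m ⟨⟨hc, hs⟩, ht⟩ fun i => by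
        simp only [Equiv.Perm.mul_apply, Fin.revPerm_apply, Fin.rev_lt_rev]
        exact lt_of_le_of_ne (hno i) fun e => (pt_lt_mSg m i).ne' (π.injective e)
    · have hρ : OkM m (Fin.revPerm * π * tau m) := ⟨⟨hc.mul (tau_rev m), by
          rw [map_mul, sign_tau]
          rcases Int.units_eq_one_or (Equiv.Perm.sign (Fin.revPerm * π)) with e | e
          · exact absurd e hs
          · rw [e]; decide⟩, fun j => by simp only [Equiv.Perm.mul_apply] at ht ⊢; rw [ht]⟩
      have h := okM_descent m hρ fun i => by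
        have hfix : ∀ x, ((x : Fin (2 * (m + 1))) : ℕ) ≠ m → (x : ℕ) ≠ m + 1 → tau m x = x := fun x h1 h2 =>
          Fin.ext (by rw [tau_apply, if_neg h1, if_neg h2])
        have hlt := i.isLt
        have a1 : tau m (pt (bIx m i)) = pt (bIx m i) := hfix _ (by simp [pt, bIx]; omega) (by simp [pt, bIx]; omega)
        have a2 : tau m (mSg m i (pt (bIx m i))) = mSg m i (pt (bIx m i)) := by
          rw [← (okM_mSg m i).2, a1]
        simp only [Equiv.Perm.mul_apply, Fin.revPerm_apply, Fin.rev_lt_rev, a1, a2]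
        exact lt_of_le_of_ne (hno i) fun e => (pt_lt_mSg m i).ne' (π.injective e)
      rcases h with h | h
      · right; rw [← mul_one (Fin.revPerm * π), ← tau_tau m, ← mul_assoc, h, one_mul]
      · left
        exact mul_right_cancel (h.trans (one_mul _).symm)

theorem combPlus_lab_rev : ∀ (i : (combPlus m).I) (a b : Fin (2 * (m + 1))),
    (combPlus m).lab i (Fin.rev a) = (combPlus m).lab i (Fin.rev b) ↔
      (combPlus m).lab i a = (combPlus m).lab i b := by
  rintro (i | h) a b
  · exact lab_rev _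
  · show lab _ (tau m _) = lab _ (tau m _) ↔ _
    rw [tau_rev, tau_rev]
    exact lab_rev _

theorem combMinus_lab_rev (i : Fin m) (a b : Fin (2 * (m + 1))) :
    (combMinus m).lab i (Fin.rev a) = (combMinus m).lab i (Fin.rev b) ↔
      (combMinus m).lab i a = (combMinus m).lab i b := by
  show mLab m i (Fin.rev a) = mLab m i (Fin.rev b) ↔ mLab m i a = mLab m i b
  by_cases hi : (i : ℕ) + 1 < m
  · simp only [mLab, if_pos hi]; exact lab_rev _
  · have := i.isLt
    have := a.isLt
    have := b.isLt
    simp only [mLab, if_neg hi, Fin.val_rev]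
    split_ifs <;> omega

end TypeD

end CfsgLib.StGen
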