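import Cfsg.Agent.StClassical.Model
import Cfsg.Agent.StGen.CombD

/-!
# Tits systems and Steinberg characters of matrix groups with a combinatorial Weyl group datum
-/

set_option autoImplicit false
set_option linter.unusedSectionVars false
set_option linter.style.haveILetI false

namespace CfsgLib.StGen

open Matrix CfsgLib.Pronormal CfsgLib.StClassical
open scoped MatrixGroups

variable {n : ℕ} {F : Type*} [Field F]

/-- The hypotheses on the group. -/
structure Model (C : Comb n) (G : Subgroup (GL (Fin n) F)) : Prop where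
  decomp : ∀ g ∈ G, ∃ (t : Fin n → Fˣ) (π : Equiv.Perm (Fin n)) (a u : GL (Fin n) F),
    a ∈ G ∧ a ∈ unitri n F ∧ u ∈ G ∧ u ∈ unitri n F ∧ monoGL t π ∈ G ∧ g = a * monoGL t π * u
  comm : ∀ (t : Fin n → Fˣ) (π : Equiv.Perm (Fin n)), monoGL t π ∈ G → C.ok π
  factor : ∀ (t : Fin n → Fˣ) (π : Equiv.Perm (Fin n)), monoGL t π ∈ G →
    ∀ b ∈ G, b ∈ unitri n F → ∃ a c : GL (Fin n) F,
      a ∈ G ∧ a ∈ unitri n F ∧ (monoGL t π)⁻¹ * a * monoGL t π ∈ lowerTri n F ∧
      c ∈ G ∧ c ∈ unitri n F ∧ (monoGL t π)⁻¹ * c * monoGL t π ∈ unitri n F ∧ b = a * c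
  refl : ∀ i : C.I, ∃ t, monoGL t (C.sg i) ∈ G
  root : ∀ i : C.I, ∃ x ∈ G, x ∈ unitri n F ∧
    (x : Matrix (Fin n) (Fin n) F) (C.pt i) (C.sg i (C.pt i)) ≠ 0
  upper_block : ∀ (i : C.I), ∀ g ∈ G, g ∈ Cfsg.upperTriangularGL n F →
    (g : Matrix (Fin n) (Fin n) F).BlockTriangular (C.lab i)
  supp : ∀ (i : C.I), ∀ a ∈ G, a ∈ unitri n F →
    (∀ j k, j < k → (a : Matrix (Fin n) (Fin n) F) j k ≠ 0 → C.sg i k < C.sg i j) →
    ∀ j k, j < k → (a : Matrix (Fin n) (Fin n) F) j k ≠ 0 → C.rel i j k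
  w0_opp : ∀ z ∈ G, z ∈ unitri n F →
    (∀ j k, j < k → (z : Matrix (Fin n) (Fin n) F) j k ≠ 0 → C.w0.symm j < C.w0.symm k) → z = 1

/-- The block triangular matrices of a labelling. -/
def blkGL (F : Type*) [Field F] (l : Fin n → ℕ) : Subgroup (GL (Fin n) F) where
  carrier := {g | (g : Matrix (Fin n) (Fin n) F).BlockTriangular l}
  one_mem' := by simp only [Set.mem_setOf_eq, Units.val_one]; exact Matrix.blockTriangular_one
  mul_mem' {a b} ha hb := by
    simp only [Set.mem_setOf_eq, Units.val_mul] at *; exact ha.mul hb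
  inv_mem' {a} ha := by
    simp only [Set.mem_setOf_eq, Matrix.coe_units_inv] at *
    haveI := Units.invertible a
    exact Matrix.blockTriangular_inv_of_blockTriangular ha

theorem mono_mem_blkGL_iff {l : Fin n → ℕ} {t : Fin n → Fˣ} {π : Equiv.Perm (Fin n)} :
    monoGL t π ∈ blkGL F l ↔ ∀ j, l (π j) = l j := by
  constructor
  · intro h
    have hle : ∀ j, l (π j) ≤ l j := fun j => by
      by_contra hlt
      have := h (not_le.1 hlt)
      rw [monoGL_apply, if_pos rfl] at this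
      exact (t _).ne_zero this
    exact fun j => (Finset.sum_eq_sum_iff_of_le fun k _ => hle k).1 (Equiv.sum_comp π l) j (Finset.mem_univ _)
  · intro h a b hab
    rw [monoGL_apply, if_neg]
    rintro rfl
    exact hab.ne' (h b)

namespace Model

variable {C : Comb n} {G : Subgroup (GL (Fin n) F)}

/-- The Borel subgroup. -/
def borel (_M : Model C G) : Subgroup G := (Cfsg.upperTriangularGL n F).subgroupOf G

/-- The monomial subgroup. -/
def nSub (_M : Model C G) : Subgroup G := (monomial n F).subgroupOf G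

/-- The unipotent radical. -/
def uni (_M : Model C G) : Subgroup G := (unitri n F).subgroupOf G

variable (M : Model C G)
include M

/-- Representative of a simple reflection. -/
noncomputable def rep (i : C.I) : G := ⟨_, (M.refl i).choose_spec⟩

theorem rep_coe (i : C.I) : ((M.rep i : G) : GL (Fin n) F) = monoGL (M.refl i).choose (C.sg i) := rfl

theorem perm_comm {μ : G} {t : Fin n → Fˣ} {π : Equiv.Perm (Fin n)}
    (h : (μ : GL (Fin n) F) = monoGL t π) : C.ok π := M.comm t π (h ▸ μ.2)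

theorem split_upper {b : G} (hb : (b : GL (Fin n) F) ∈ Cfsg.upperTriangularGL n F) :
    ∃ (u d : G) (t : Fin n → Fˣ), (u : GL (Fin n) F) ∈ unitri n F ∧
      (d : GL (Fin n) F) = diagGL t ∧ b = u * d := by
  obtain ⟨t, π, a, u, ha, haU, hu, huU, hm, he⟩ := M.decomp b b.2
  have hπ : π = 1 := monoGL_eq_diag_of_upper (t := t) (by
    have : monoGL t π = a⁻¹ * b * u⁻¹ := by simp [he, mul_assoc]
    rw [this]
    exact mul_mem (mul_mem (inv_mem haU.1) hb) (inv_mem huU.1))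
  subst hπ
  rw [monoGL_one] at hm he
  refine ⟨⟨a * (diagGL t * u * (diagGL t)⁻¹), mul_mem ha (mul_mem (mul_mem hm hu) (inv_mem hm))⟩,
    ⟨_, hm⟩, t, mul_mem haU (diag_conj_mem huU t), rfl, Subtype.ext ?_⟩
  simp [he, mul_assoc]

theorem diag_mem_borel {d : G} {t : Fin n → Fˣ} (h : (d : GL (Fin n) F) = diagGL t) : d ∈ M.borel := by
  show (d : GL (Fin n) F) ∈ Cfsg.upperTriangularGL n F
  rw [h]; exact diag_mem_upper t

theorem conj_diag {μ d : G} {t s : Fin n → Fˣ} {π : Equiv.Perm (Fin n)}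
    (hμ : (μ : GL (Fin n) F) = monoGL t π) (hd : (d : GL (Fin n) F) = diagGL s) :
    μ * d * μ⁻¹ ∈ M.borel :=
  M.diag_mem_borel (t := fun i => s (π.symm i)) (by
    rw [Subgroup.coe_mul, Subgroup.coe_mul, Subgroup.coe_inv, hμ, hd, monoGL_conj_diag])

theorem conj_diag' {μ d : G} {t s : Fin n → Fˣ} {π : Equiv.Perm (Fin n)}
    (hμ : (μ : GL (Fin n) F) = monoGL t π) (hd : (d : GL (Fin n) F) = diagGL s) :
    μ⁻¹ * d * μ ∈ M.borel := by
  have := M.conj_diag (μ := μ⁻¹) (t := fun i => (t (π i))⁻¹) (π := π⁻¹)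
    (by rw [Subgroup.coe_inv, hμ, monoGL_inv]) hd
  rwa [inv_inv] at this

/-- The basic inclusion `μ B s ⊆ B μ s B`. -/
theorem asc_mul {μ : G} {t : Fin n → Fˣ} {π : Equiv.Perm (Fin n)} (hμ : (μ : GL (Fin n) F) = monoGL t π)
    (i : C.I) (hasc : π (C.pt i) < π (C.sg i (C.pt i))) {b : G} (hb : b ∈ M.borel) :
    ∃ b₁ ∈ M.borel, ∃ b₂ ∈ M.borel, μ * b * M.rep i = b₁ * (μ * M.rep i) * b₂ := by
  obtain ⟨u, d, s, hu, hd, rfl⟩ := M.split_upper hb
  obtain ⟨a, c, ha, haU, haL, hc, hcU, hcs, he⟩ :=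
    M.factor _ _ (M.refl i).choose_spec u u.2 hu
  rw [← M.rep_coe] at haL hcs
  have hconj : monoGL t π * a * (monoGL t π)⁻¹ ∈ unitri n F := by
    refine conj_mem_unitri haU fun j k hjk h0 => C.asc i (M.perm_comm hμ) hasc j k hjk
      (M.supp i a ha haU (fun j k hjk h0 => ?_) j k hjk h0)
    by_contra hinv
    have hne : C.sg i j ≠ C.sg i k := fun e => hjk.ne ((C.sg i).injective e)
    have hlt : C.sg i j < C.sg i k := lt_of_le_of_ne (not_lt.1 hinv) hne
    have h1 := mem_lowerTri.1 haL _ _ hlt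
    have h2 := monoGL_conj_apply (M.refl i).choose (C.sg i)
      (((M.rep i : G) : GL (Fin n) F)⁻¹ * a * ((M.rep i : G) : GL (Fin n) F)) (C.sg i j) (C.sg i k)
    rw [h1, mul_zero, zero_mul, (C.sg_apply_apply _), (C.sg_apply_apply _), ← M.rep_coe] at h2
    exact h0 (by simpa [mul_assoc] using h2)
  have hu' : u = ⟨a, ha⟩ * ⟨c, hc⟩ := Subtype.ext he
  refine ⟨μ * ⟨a, ha⟩ * μ⁻¹, ?_, ((M.rep i)⁻¹ * ⟨c, hc⟩ * M.rep i) * ((M.rep i)⁻¹ * d * M.rep i), ?_, ?_⟩
  · show ((μ * ⟨a, ha⟩ * μ⁻¹ : G) : GL (Fin n) F) ∈ Cfsg.upperTriangularGL n F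
    rw [Subgroup.coe_mul, Subgroup.coe_mul, Subgroup.coe_inv, hμ]
    exact hconj.1
  · exact mul_mem (show _ ∈ M.borel from hcs.1) (M.conj_diag' (M.rep_coe i) hd)
  · rw [hu']; group

theorem rep_sq (i : C.I) : M.rep i * M.rep i ∈ M.borel := by
  refine M.diag_mem_borel (t := (M.refl i).choose * fun k => (M.refl i).choose ((C.sg i).symm k)) ?_
  rw [Subgroup.coe_mul, rep_coe, monoGL_mul, C.sg_sg, monoGL_one]

/-- `s B s` lies in `B ∪ B s B`. -/
theorem rep_mul_rep (i : C.I) {b : G} (hb : b ∈ M.borel) :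
    M.rep i * b * M.rep i ∈ M.borel ∨
      ∃ b₁ ∈ M.borel, ∃ b₂ ∈ M.borel, M.rep i * b * M.rep i = b₁ * M.rep i * b₂ := by
  set g := M.rep i * b * M.rep i with hg
  have hs : ((M.rep i : G) : GL (Fin n) F) ∈ blkGL F (C.lab i) := mono_mem_blkGL_iff.2 (C.lab_sg i)
  have hgP : (g : GL (Fin n) F) ∈ blkGL F (C.lab i) := by
    rw [hg, Subgroup.coe_mul, Subgroup.coe_mul]
    exact mul_mem (mul_mem hs (M.upper_block i _ b.2 hb)) hs
  obtain ⟨t, π, a, u, ha, haU, hu, huU, hm, he⟩ := M.decomp g g.2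
  have hπ : ∀ j, C.lab i (π j) = C.lab i j := (mono_mem_blkGL_iff (t := t)).1 (by
    rw [show monoGL t π = a⁻¹ * g * u⁻¹ by rw [he]; group]
    exact mul_mem (mul_mem (inv_mem (M.upper_block i _ ha haU.1)) hgP) (inv_mem (M.upper_block i _ hu huU.1)))
  rcases C.eq_or_eq i (M.comm t π hm) hπ with rfl | rfl
  · left
    show (g : GL (Fin n) F) ∈ Cfsg.upperTriangularGL n F
    rw [he, monoGL_one]
    exact mul_mem (mul_mem haU.1 (diag_mem_upper t)) huU.1
  · right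
    set r : G := ⟨_, hm⟩
    have hd : (((M.rep i)⁻¹ * r : G) : GL (Fin n) F) ∈ Cfsg.upperTriangularGL n F := by
      rw [Subgroup.coe_mul, Subgroup.coe_inv, rep_coe, monoGL_inv, monoGL_mul, inv_mul_cancel, monoGL_one]
      exact diag_mem_upper _
    refine ⟨⟨a, ha⟩, haU.1, (M.rep i)⁻¹ * r * ⟨u, hu⟩, mul_mem hd (show _ ∈ M.borel from huU.1), ?_⟩
    calc g = ⟨a, ha⟩ * r * ⟨u, hu⟩ := Subtype.ext he
      _ = _ := by group

theorem mul_rep_mem (i : C.I) {μ : G} (hμ : μ ∈ M.nSub) {b : G} (hb : b ∈ M.borel) :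
    μ * b * M.rep i ∈ DoubleCoset.doubleCoset (μ * M.rep i) (M.borel : Set G) M.borel ∪
      DoubleCoset.doubleCoset μ (M.borel : Set G) M.borel := by
  obtain ⟨t, π, hμ'⟩ : (μ : GL (Fin n) F) ∈ monomial n F := hμ
  have hor : π (C.pt i) < π (C.sg i (C.pt i)) ∨ (π * C.sg i) (C.pt i) < (π * C.sg i) (C.sg i (C.pt i)) := by
    rw [Equiv.Perm.mul_apply, Equiv.Perm.mul_apply, C.sg_apply_apply]
    exact lt_or_gt_of_ne fun e => (C.pt_lt i).ne (π.injective e)
  rcases hor with hasc | hasc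
  · obtain ⟨b₁, h₁, b₂, h₂, e⟩ := M.asc_mul hμ' i hasc hb
    exact Or.inl (DoubleCoset.mem_doubleCoset.2 ⟨b₁, h₁, b₂, h₂, e⟩)
  set s := M.rep i with hs
  set ν := μ * s with hν
  have hss := M.rep_sq i
  have hν' : ∃ t', (ν : GL (Fin n) F) = monoGL t' (π * C.sg i) := ⟨_, by
    rw [hν, Subgroup.coe_mul, hs, rep_coe, hμ', monoGL_mul]⟩
  obtain ⟨t', hν'⟩ := hν'
  have key : μ * b * s = ν * (s * s)⁻¹ * (s * b * s) := by rw [hν]; group
  rcases M.rep_mul_rep i hb with h | ⟨b₁, h₁, b₂, h₂, e⟩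
  · refine Or.inl (DoubleCoset.mem_doubleCoset.2 ⟨1, one_mem _, (s * s)⁻¹ * (s * b * s),
      mul_mem (inv_mem hss) h, ?_⟩)
    rw [key]; group
  · obtain ⟨c₁, k₁, c₂, k₂, e'⟩ := M.asc_mul hν' i hasc (mul_mem (inv_mem hss) h₁)
    refine Or.inr (DoubleCoset.mem_doubleCoset.2 ⟨c₁, k₁, (s * s) * c₂ * b₂, mul_mem (mul_mem hss k₂) h₂, ?_⟩)
    calc μ * b * s = (ν * ((s * s)⁻¹ * b₁) * s) * b₂ := by rw [key, e]; simp only [hs]; group
      _ = (c₁ * (ν * s) * c₂) * b₂ := by rw [e']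
      _ = _ := by rw [hν]; group

theorem exists_perm {μ : G} (hμ : μ ∈ M.nSub) :
    ∃ (t : Fin n → Fˣ) (π : Equiv.Perm (Fin n)), (μ : GL (Fin n) F) = monoGL t π := hμ

theorem rep_mem (i : C.I) : M.rep i ∈ M.nSub := ⟨_, _, M.rep_coe i⟩

/-- A monomial element with a descent moves an element of `U` out of `B`. -/
theorem exists_conj_not_mem {μ : G} {t : Fin n → Fˣ} {π : Equiv.Perm (Fin n)}
    (hμ : (μ : GL (Fin n) F) = monoGL t π) (i : C.I) (h : π (C.sg i (C.pt i)) < π (C.pt i)) :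
    ∃ u ∈ M.uni, μ * u * μ⁻¹ ∉ M.borel := by
  obtain ⟨x, hx, hxU, hne⟩ := M.root i
  refine ⟨⟨x, hx⟩, hxU, fun hB => ?_⟩
  have h0 := upper_apply (show ((μ * ⟨x, hx⟩ * μ⁻¹ : G) : GL (Fin n) F) ∈ Cfsg.upperTriangularGL n F from hB) h
  rw [Subgroup.coe_mul, Subgroup.coe_mul, Subgroup.coe_inv, hμ, monoGL_conj_apply] at h0
  simp [hne] at h0

theorem rep_conj_ne (i : C.I) : (fun b : G => M.rep i * b * M.rep i) '' (M.borel : Set G) ≠ M.borel := by
  intro h
  obtain ⟨u, hu, hn⟩ := M.exists_conj_not_mem (M.rep_coe i) i (by rw [(C.sg_apply_apply _)]; exact C.pt_lt i)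
  have h1 : M.rep i * u * M.rep i ∈ (M.borel : Set G) := h ▸ ⟨u, hu.1, rfl⟩
  refine hn ?_
  have := mul_mem (show M.rep i * u * M.rep i ∈ M.borel from h1) (inv_mem (M.rep_sq i))
  convert this using 1
  group

theorem mono_mem_borel {μ : G} {t : Fin n → Fˣ} {π : Equiv.Perm (Fin n)}
    (hμ : (μ : GL (Fin n) F) = monoGL t π) : μ ∈ M.borel ↔ π = 1 := by
  constructor
  · intro h
    exact monoGL_eq_diag_of_upper (t := t) (hμ ▸ h)
  · rintro rfl
    exact M.diag_mem_borel (t := t) (by rw [hμ, monoGL_one])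

theorem rep_inj {i j : C.I} (h : (M.rep i)⁻¹ * M.rep j ∈ M.borel) : i = j := by
  refine C.inj (inv_mul_eq_one.1 ?_)
  exact (M.mono_mem_borel (μ := (M.rep i)⁻¹ * M.rep j) (by
    rw [Subgroup.coe_mul, Subgroup.coe_inv, rep_coe, rep_coe, monoGL_inv, monoGL_mul])).1 h

theorem mem_closure {μ : G} (hμ : μ ∈ M.nSub) :
    μ ∈ Subgroup.closure (Set.range M.rep) ⊔ (M.borel ⊓ M.nSub) := by
  obtain ⟨t, π, hμ'⟩ := M.exists_perm hμ
  obtain ⟨k, hk⟩ : ∃ k : ℕ, C.wt π = k := ⟨_, rfl⟩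
  induction k using Nat.strong_induction_on generalizing μ t π with
  | _ k ih =>
  by_cases h1 : π = 1
  · exact Subgroup.mem_sup_right ⟨(M.mono_mem_borel hμ').2 h1, hμ⟩
  obtain ⟨i, hi⟩ := C.exists_descent (M.perm_comm hμ') h1
  have hν : ((μ * M.rep i : G) : GL (Fin n) F) = monoGL (t * fun j => (M.refl i).choose (π.symm j)) (π * C.sg i) := by
    rw [Subgroup.coe_mul, rep_coe, hμ', monoGL_mul]
  have hlt := C.wt_lt i (M.perm_comm hμ') hi
  have := ih _ (hk ▸ hlt) (mul_mem hμ (M.rep_mem i)) _ _ hν rfl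
  have h2 : M.rep i ∈ Subgroup.closure (Set.range M.rep) ⊔ (M.borel ⊓ M.nSub) :=
    Subgroup.mem_sup_left (Subgroup.subset_closure ⟨i, rfl⟩)
  simpa using mul_mem this (inv_mem h2)

/-- The Tits system. -/
noncomputable def bnPair : Cfsg.BNPair G where
  B := M.borel
  N := M.nSub
  S := Set.range M.rep
  sup_eq_top := eq_top_iff.2 fun g _ => by
    obtain ⟨t, π, a, u, ha, haU, hu, huU, hm, he⟩ := M.decomp g g.2
    have : g = ⟨a, ha⟩ * ⟨_, hm⟩ * ⟨u, hu⟩ := Subtype.ext he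
    rw [this]
    exact mul_mem (mul_mem (Subgroup.mem_sup_left (show (⟨a, ha⟩ : G) ∈ M.borel from haU.1))
      (Subgroup.mem_sup_right (show (⟨_, hm⟩ : G) ∈ M.nSub from ⟨t, π, rfl⟩)))
      (Subgroup.mem_sup_left (show (⟨u, hu⟩ : G) ∈ M.borel from huU.1))
  conj_mem μ hμ d hd := by
    obtain ⟨t, π, hμ'⟩ := M.exists_perm hμ
    obtain ⟨hdB, hdN⟩ := Subgroup.mem_inf.1 hd
    obtain ⟨s, σ, hd'⟩ := M.exists_perm hdN
    obtain rfl := (M.mono_mem_borel hd').1 hdB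
    exact M.conj_diag hμ' (hd'.trans (monoGL_one s))
  subset := by rintro _ ⟨i, rfl⟩; exact M.rep_mem i
  sq_mem := by rintro _ ⟨i, rfl⟩; exact M.rep_sq i
  inj := by rintro _ ⟨i, rfl⟩ _ ⟨j, rfl⟩ h; rw [M.rep_inj h]
  closure_sup := le_antisymm (sup_le ((Subgroup.closure_le _).2 (by rintro _ ⟨i, rfl⟩; exact M.rep_mem i))
    inf_le_right) fun μ hμ => M.mem_closure hμ
  mul_mem_union := by
    rintro _ ⟨i, rfl⟩ μ hμ b hb
    set s := M.rep i with hs
    have hss := M.rep_sq i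
    have h := M.mul_rep_mem i (inv_mem hμ) (mul_mem (inv_mem hb) (inv_mem hss))
    have e : s * b * μ = (μ⁻¹ * (b⁻¹ * (s * s)⁻¹) * s)⁻¹ := by group
    rw [e]
    rcases h with h | h <;> obtain ⟨c₁, k₁, c₂, k₂, h⟩ := DoubleCoset.mem_doubleCoset.1 h
    · refine Or.inl (DoubleCoset.mem_doubleCoset.2
        ⟨c₂⁻¹ * (s * s)⁻¹, mul_mem (inv_mem k₂) (inv_mem hss), c₁⁻¹, inv_mem k₁, ?_⟩)
      rw [h]; simp only [hs]; group
    · refine Or.inr (DoubleCoset.mem_doubleCoset.2 ⟨c₂⁻¹, inv_mem k₂, c₁⁻¹, inv_mem k₁, ?_⟩)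
      rw [h]; group
  conj_ne := by rintro _ ⟨i, rfl⟩; exact M.rep_conj_ne i

theorem bnPair_B : M.bnPair.B = M.borel := rfl

theorem normalizer_le : Subgroup.normalizer (M.uni : Set G) ≤ M.borel := by
  intro x hx
  obtain ⟨t, π, a, u, ha, haU, hu, huU, hm, he⟩ := M.decomp x x.2
  set μ : G := ⟨_, hm⟩
  have hx' : x = ⟨a, ha⟩ * μ * ⟨u, hu⟩ := Subtype.ext he
  have hμ : μ ∈ Subgroup.normalizer (M.uni : Set G) := by
    have : μ = (⟨a, ha⟩ : G)⁻¹ * x * (⟨u, hu⟩ : G)⁻¹ := by rw [hx']; group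
    rw [this]
    exact mul_mem (mul_mem (inv_mem (Subgroup.le_normalizer (show (⟨a, ha⟩ : G) ∈ M.uni from haU))) hx)
      (inv_mem (Subgroup.le_normalizer (show (⟨u, hu⟩ : G) ∈ M.uni from huU)))
  have hπ : π = 1 := by
    by_contra h1
    obtain ⟨i, hi⟩ := C.exists_descent (M.comm t π hm) h1
    obtain ⟨v, hv, hvn⟩ := M.exists_conj_not_mem (μ := μ) rfl i hi
    exact hvn (show (μ * v * μ⁻¹ : G) ∈ M.borel from
      ((Subgroup.mem_normalizer_iff.1 hμ v).1 hv).1)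
  rw [hx']
  refine mul_mem (mul_mem (show (⟨a, ha⟩ : G) ∈ M.borel from haU.1) ((M.mono_mem_borel rfl).2 hπ))
    (show (⟨u, hu⟩ : G) ∈ M.borel from huU.1)

variable [Finite F] (p : ℕ) [Fact p.Prime] [CharP F p]

omit M in
theorem unitri_pow {g : GL (Fin n) F} (hg : g ∈ unitri n F) : ∃ k : ℕ, g ^ p ^ k = 1 := by
  refine ⟨n, ?_⟩
  have htri : (g : Matrix (Fin n) (Fin n) F).IsUpperTriangular := hg.1
  have hchar : (g : Matrix (Fin n) (Fin n) F).charpoly =
      (Polynomial.X - Polynomial.C 1) ^ n := by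
    rw [Matrix.charpoly_of_isUpperTriangular _ htri]
    simp [hg.2]
  have h0 : ((g : Matrix (Fin n) (Fin n) F) - 1) ^ n = 0 := by
    have := Matrix.aeval_self_charpoly (g : Matrix (Fin n) (Fin n) F)
    rw [hchar] at this
    simpa using this
  cases n with
  | zero => exact Subsingleton.elim _ _
  | succ m =>
    haveI : CharP (Matrix (Fin (m + 1)) (Fin (m + 1)) F) p := inferInstance
    have h1 : ((g : Matrix (Fin (m + 1)) (Fin (m + 1)) F) - 1) ^ p ^ (m + 1) = 0 :=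
      pow_eq_zero_of_le (Nat.lt_pow_self (Fact.out : p.Prime).one_lt).le h0
    rw [sub_pow_char_pow_of_commute p _ (Commute.one_right _), one_pow, sub_eq_zero] at h1
    exact Units.ext (by rw [Units.val_pow_eq_pow_val, h1, Units.val_one])

theorem pElement_borel {x : G} (hx : x ∈ M.borel) (hk : ∃ k : ℕ, x ^ p ^ k = 1) : x ∈ M.uni := by
  obtain ⟨k, hk⟩ := hk
  refine ⟨hx, fun i => ?_⟩
  have hp : ∀ m : ℕ, (((x : GL (Fin n) F) ^ m : GL (Fin n) F) : Matrix (Fin n) (Fin n) F) i i =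
      (((x : GL (Fin n) F)) : Matrix (Fin n) (Fin n) F) i i ^ m := by
    intro m
    induction m with
    | zero => simp
    | succ m ih =>
      have hx' : ((x : G) : GL (Fin n) F) ∈ Cfsg.upperTriangularGL n F := hx
      rw [pow_succ, upper_mul_diag (pow_mem hx' m) hx', ih, pow_succ]
  have h1 := hp (p ^ k)
  rw [← SubmonoidClass.coe_pow, hk] at h1
  have h2 : ((x : GL (Fin n) F) : Matrix (Fin n) (Fin n) F) i i ^ p ^ k - 1 ^ p ^ k = 0 := by
    rw [← h1]; simp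
  rw [← sub_pow_char_pow] at h2
  exact sub_eq_zero.mp (eq_zero_of_pow_eq_zero h2)

theorem exists_sylow : ∃ S : Sylow p G, (S : Subgroup G) = M.uni :=
  exists_sylow_eq_of_pElements (fun x => by
    obtain ⟨k, hk⟩ := unitri_pow p (n := n) (F := F) (g := ((x : G) : GL (Fin n) F)) x.2
    exact ⟨k, Subtype.ext (Subtype.ext (by simpa using hk))⟩)
    fun x hx hk => M.pElement_borel p (M.normalizer_le hx) hk

section Steinberg

open CfsgLib.BN CfsgLib.StCh

attribute [local instance] torus_normal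

omit [Finite F] [Fact p.Prime] [CharP F p] in
theorem len_lt_of_asc (μ : M.bnPair.N) {t : Fin n → Fˣ} {π : Equiv.Perm (Fin n)}
    (hμ : ((μ : G) : GL (Fin n) F) = monoGL t π) (i : C.I) (hasc : π (C.pt i) < π (C.sg i (C.pt i))) :
    len M.bnPair (QuotientGroup.mk μ) <
      len M.bnPair (QuotientGroup.mk μ * BN.refl M.bnPair ⟨M.rep i, ⟨i, rfl⟩⟩) := by
  set s : M.bnPair.S := ⟨M.rep i, ⟨i, rfl⟩⟩
  set w : Weyl M.bnPair := QuotientGroup.mk μ
  refine (len_lt_or w s).resolve_right fun h => ?_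
  rw [len_mul_refl, ← len_inv M.bnPair w] at h
  obtain ⟨b, hb, hmem⟩ := exists_mem_of_len_lt M.bnPair h (n := μ⁻¹) rfl
  have hmem' := inv_mem_cw M.bnPair hmem
  rw [inv_inv] at hmem'
  have hcoe : (((μ⁻¹ : M.bnPair.N)) : G) = (μ : G)⁻¹ := rfl
  rw [hcoe, show (s.1 * b * (μ : G)⁻¹)⁻¹ = (μ : G) * b⁻¹ * M.rep i * (M.rep i * M.rep i)⁻¹ by
    show (M.rep i * b * (μ : G)⁻¹)⁻¹ = _; group] at hmem'
  obtain ⟨b₁, h₁, b₂, h₂, e⟩ := M.asc_mul hμ i hasc (inv_mem (show b ∈ M.borel from hb))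
  have hmem2 : (μ : G) * b⁻¹ * M.rep i * (M.rep i * M.rep i)⁻¹ ∈ cw M.bnPair (w * BN.refl M.bnPair s) := by
    rw [e, BN.refl, ← QuotientGroup.mk_mul, cw_mk]
    exact (mem_cosetOf M.bnPair).2 ⟨b₁, h₁, b₂ * (M.rep i * M.rep i)⁻¹, mul_mem h₂ (inv_mem (M.rep_sq i)),
      by show _ = b₁ * ((μ : G) * M.rep i) * _; group⟩
  exact refl_ne_one M.bnPair s (mul_eq_left.1 (eq_of_mem M.bnPair hmem' hmem2).symm)

variable [Fintype M.bnPair.S]

omit [Finite F] [Fact p.Prime] [CharP F p] in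
theorem longest_perm [Finite G] {wl : Finset M.bnPair.S → Weyl M.bnPair} (hwl : HasLongest M.bnPair wl)
    (μ : M.bnPair.N) (hμw : QuotientGroup.mk μ = wl Finset.univ) {t : Fin n → Fˣ} {π : Equiv.Perm (Fin n)}
    (hμ : ((μ : G) : GL (Fin n) F) = monoGL t π) : π = C.w0 := by
  have hc := M.perm_comm hμ
  by_contra hne
  obtain ⟨i, hi⟩ := C.exists_ascent hc hne
  have hlt := M.len_lt_of_asc μ hμ i hi
  rw [hμw] at hlt
  exact absurd (((hwl _ _).2 rfl).2 _ (Finset.mem_univ _)) hlt.asymm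

omit [Finite F] [Fact p.Prime] [CharP F p] in
theorem cellCard_univ [Finite G] {wl : Finset M.bnPair.S → Weyl M.bnPair} (hwl : HasLongest M.bnPair wl) :
    cellCard M.bnPair wl Finset.univ = Nat.card M.uni := by
  obtain ⟨μ, hμw⟩ := QuotientGroup.mk_surjective (wl Finset.univ)
  obtain ⟨t, π, hμ⟩ := M.exists_perm μ.2
  obtain rfl := M.longest_perm hwl μ hμw hμ
  have hcell : ∀ u ∈ M.uni, cell M.bnPair (QuotientGroup.mk (u * (μ : G))) = wl Finset.univ := fun u hu => by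
    rw [cell_mk, cellOf_eq (w := wl Finset.univ)]
    rw [← hμw, cw_mk]
    exact (mem_cosetOf M.bnPair).2 ⟨u, hu.1, 1, one_mem _, by group⟩
  rw [cellCard]
  refine (Nat.card_congr (Equiv.ofBijective
    (fun u : M.uni => (⟨QuotientGroup.mk ((u : G) * (μ : G)), hcell u u.2⟩ :
      {x : G ⧸ M.bnPair.B // cell M.bnPair x = wl Finset.univ})) ⟨?_, ?_⟩)).symm
  · intro u v e
    have e' := congrArg Subtype.val e
    simp only [QuotientGroup.eq] at e'
    have hz : (((u : G)⁻¹ * v : G) : GL (Fin n) F) = 1 := by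
      have hzU : (((u : G)⁻¹ * v : G) : GL (Fin n) F) ∈ unitri n F :=
        show ((u : G)⁻¹ * v) ∈ M.uni from mul_mem (inv_mem u.2) v.2
      set z := (((u : G)⁻¹ * v : G) : GL (Fin n) F)
      refine M.w0_opp z ((u : G)⁻¹ * v).2 hzU fun a b hab h0 => ?_
      by_contra hnlt
      have hy : (monoGL t C.w0)⁻¹ * z * monoGL t C.w0 ∈ Cfsg.upperTriangularGL n F := by
        have : ((u : G) * (μ : G))⁻¹ * ((v : G) * (μ : G)) ∈ M.borel := e'
        rw [show ((u : G) * (μ : G))⁻¹ * ((v : G) * (μ : G)) = (μ : G)⁻¹ * ((u : G)⁻¹ * v) * μ by group] at this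
        have h' : (((μ : G)⁻¹ * ((u : G)⁻¹ * v) * μ : G) : GL (Fin n) F) ∈ Cfsg.upperTriangularGL n F := this
        rwa [Subgroup.coe_mul, Subgroup.coe_mul, Subgroup.coe_inv, hμ] at h'
      have hne : C.w0.symm a ≠ C.w0.symm b := fun e => hab.ne (C.w0.symm.injective e)
      have h1 := monoGL_conj_apply t C.w0 ((monoGL t C.w0)⁻¹ * z * monoGL t C.w0) (C.w0.symm a) (C.w0.symm b)
      rw [upper_apply hy (lt_of_le_of_ne (not_lt.1 hnlt) hne.symm), mul_zero, zero_mul,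
        Equiv.apply_symm_apply, Equiv.apply_symm_apply] at h1
      exact h0 (by simpa [mul_assoc] using h1)
    exact Subtype.ext (inv_mul_eq_one.1 (Subtype.ext hz))
  · rintro ⟨x, hx⟩
    obtain ⟨g, rfl⟩ := QuotientGroup.mk_surjective x
    rw [cell_mk] at hx
    have hm := mem_cellOf (P := M.bnPair) g
    rw [hx, ← hμw, cw_mk] at hm
    obtain ⟨b, hb, c, hc, e⟩ := (mem_cosetOf M.bnPair).1 hm
    obtain ⟨u, d, s, hu, hd, rfl⟩ := M.split_upper (show b ∈ M.borel from hb)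
    refine ⟨⟨u, hu⟩, Subtype.ext (QuotientGroup.eq.2 ?_)⟩
    rw [e, show (u * (μ : G))⁻¹ * (u * d * (μ : G) * c) = ((μ : G)⁻¹ * d * μ) * c by group]
    exact mul_mem (M.conj_diag' hμ hd) hc

end Steinberg

include p in
/-- The Steinberg character. -/
theorem exists_steinberg : ∃ χ : G ⧸ Subgroup.center G → ℂ,
    Cfsg.IsIrrCharacter (G ⧸ Subgroup.center G) χ ∧
    ∀ P : Sylow p (G ⧸ Subgroup.center G), χ 1 = Nat.card P ∧
      ∀ x : G ⧸ Subgroup.center G, x ∈ P → x ≠ 1 → χ x = 0 := by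
  classical
  have hp : p.Prime := Fact.out
  haveI : Fintype G := Fintype.ofFinite _
  haveI : Fintype M.bnPair.S := Fintype.ofFinite _
  obtain ⟨wl, hwl⟩ := exists_hasLongest M.bnPair
  obtain ⟨S, hS⟩ := M.exists_sylow p
  set Z := Subgroup.center G
  have hZB : Z ≤ M.borel := fun z hz => M.normalizer_le (Subgroup.mem_normalizer_iff.2 fun h => by
    rw [(Subgroup.mem_center_iff.1 hz h).symm, mul_inv_cancel_right])
  let χ : Cfsg.IrrCharacter G := ⟨StCh.st M.bnPair, StCh.isIrr_st hwl⟩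
  have h1 : StCh.st M.bnPair 1 = ((p ^ (Nat.card G).factorization p : ℕ) : ℂ) := by
    rw [StCh.st_one hwl, M.cellCard_univ hwl, ← hS, S.card_eq_multiplicity]
  have hker : ∀ z ∈ Z, StCh.st M.bnPair z = StCh.st M.bnPair 1 := by
    intro z hz
    refine Finset.sum_congr rfl fun J _ => ?_
    congr 1
    simp only [Cfsg.fixedPointCharacter]
    congr 1
    refine Nat.card_congr (Equiv.subtypeEquivRight fun x => ?_)
    simp only [MulAction.mem_fixedBy, one_smul, iff_true]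
    obtain ⟨g, rfl⟩ := QuotientGroup.mk_surjective x
    rw [MulAction.Quotient.smul_mk, QuotientGroup.eq, smul_eq_mul, ← Subgroup.mem_center_iff.1 hz g,
      _root_.mul_inv_rev, mul_assoc, inv_mul_cancel, mul_one]
    exact inv_mem (StCh.borel_le_par (P := M.bnPair) _ (hZB hz))
  obtain ⟨φ, hφ⟩ := CfsgLib.Block.exists_quotient_irr Z χ hker
  have hZp : ¬ p ∣ Nat.card Z := by
    intro h
    obtain ⟨⟨z, hz⟩, hzo⟩ := exists_prime_orderOf_dvd_card' p h
    rw [Subgroup.orderOf_mk] at hzo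
    have hzU : z ∈ M.uni := M.pElement_borel p (hZB hz) ⟨1, by rw [pow_one, ← hzo, pow_orderOf_eq_one]⟩
    obtain ⟨μ, hμw⟩ := QuotientGroup.mk_surjective (wl Finset.univ)
    obtain ⟨t, π, hμ⟩ := M.exists_perm μ.2
    obtain rfl := M.longest_perm hwl μ hμw hμ
    have hzU' : (z : GL (Fin n) F) ∈ unitri n F := hzU
    have hcomm : monoGL t C.w0 * (z : GL (Fin n) F) * (monoGL t C.w0)⁻¹ = z := by
      have := congrArg (fun w : G => (w : GL (Fin n) F))
        (show (μ : G) * z * (μ : G)⁻¹ = z by rw [Subgroup.mem_center_iff.1 hz, mul_inv_cancel_right])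
      simpa [hμ] using this
    have hz1 : (z : GL (Fin n) F) = 1 := M.w0_opp _ z.2 hzU' fun a b hab h0 => by
      by_contra hnlt
      have hne : C.w0.symm a ≠ C.w0.symm b := fun e => hab.ne (C.w0.symm.injective e)
      refine h0 ?_
      rw [← hcomm, show a = C.w0 (C.w0.symm a) by simp, show b = C.w0 (C.w0.symm b) by simp,
        monoGL_conj_apply, upper_apply hzU'.1 (lt_of_le_of_ne (not_lt.1 hnlt) hne.symm), mul_zero, zero_mul]
    rw [show z = 1 from Subtype.ext hz1, orderOf_one] at hzo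
    exact hp.ne_one hzo.symm
  have hcard : (Nat.card (G ⧸ Z)).factorization p = (Nat.card G).factorization p := by
    rw [Subgroup.card_eq_card_quotient_mul_card_subgroup Z,
      Nat.factorization_mul Nat.card_pos.ne' Nat.card_pos.ne', Finsupp.add_apply,
      Nat.factorization_eq_zero_of_not_dvd hZp, add_zero]
  refine ⟨φ.1, φ.2, fun P => ⟨?_, fun x hx hx1 => ?_⟩⟩
  · rw [P.card_eq_multiplicity]
    exact ((hφ 1).symm.trans h1).trans (by rw [hcard])
  · obtain ⟨g, rfl⟩ := QuotientGroup.mk_surjective x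
    show (φ : G ⧸ Z → ℂ) (g : G ⧸ Z) = 0
    rw [← hφ g]
    refine CfsgLib.Block.eq_zero_of_defectZero hp χ (dvd_of_eq ?_) ?_
    · rw [Cfsg.charDegree, show (χ : G → ℂ) 1 = _ from h1, Complex.natCast_re, Nat.floor_natCast]
    · obtain ⟨k, hk⟩ := IsPGroup.iff_orderOf.1 P.2 ⟨_, hx⟩
      rw [Subgroup.orderOf_mk] at hk
      have hk0 : k ≠ 0 := fun e => hx1 (orderOf_eq_one_iff.1 (by rw [hk, e, pow_zero]))
      exact (hk ▸ dvd_pow_self p hk0).trans (orderOf_map_dvd (QuotientGroup.mk' Z) g)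

end Model

end CfsgLib.StGen
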