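import Cfsg.Agent.StGen.Orth
import Cfsg.Agent.Quad.SimpleOmega
import Cfsg.Agent.Quad.Parity

/-!
# The commutator subgroup of the split orthogonal group in antidiagonal coordinates
-/

set_option autoImplicit false
set_option linter.unusedSectionVars false
set_option linter.style.haveILetI false

namespace CfsgLib.StGen

open Matrix QuadraticMap CfsgLib.Pronormal CfsgLib.Unitary CfsgLib.StClassical CfsgLib.Quad CfsgLib.Forms
open scoped MatrixGroups

variable (m : ℕ) (K : Type*) [Field K]

/-- The coordinate change. -/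
noncomputable def coordEquiv : (Fin (m + 1) ⊕ Fin (m + 1) → K) ≃ₗ[K] (Fin (2 * (m + 1)) → K) :=
  LinearEquiv.funCongrLeft K K (spIdx (m + 1)).symm

/-- Isometries as matrices. -/
noncomputable def toGL : oGroup (oqQ m K) →* GL (Fin (2 * (m + 1))) K :=
  (Cfsg.isometryGroup K ⇑(oqQ m K)).subtype.comp (isoGroupEquiv (oqQ m K)).symm.toMonoidHom

/-- The commutator group of the orthogonal group. -/
noncomputable def omg : Subgroup (GL (Fin (2 * (m + 1))) K) := ⁅orth m K, orth m K⁆

variable {m K}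

theorem coordEquiv_isom (v : Fin (m + 1) ⊕ Fin (m + 1) → K) :
    oqQ m K (coordEquiv m K v) = plusQ (m + 1) v := by
  show plusQ (m + 1) _ = _
  congr 1
  funext i
  simp [coordEquiv, LinearEquiv.funCongrLeft_apply, LinearMap.funLeft_apply]

theorem oqQ_nondeg : (polarBilin (oqQ m K)).Nondegenerate := by
  refine nondeg_of_equiv (coordEquiv m K).symm (fun v => ?_) (plusQ_nondeg (m + 1))
  rw [← coordEquiv_isom, LinearEquiv.apply_symm_apply]

theorem finrank_n : Module.finrank K (Fin (2 * (m + 1)) → K) = 2 * (m + 1) := Module.finrank_fin_fun K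

theorem hgen_oq [Finite K] (h : Nat.card K ≠ 2 ∨ m + 1 ≠ 2) :
    (∃ t : K, t ≠ 0 ∧ t ≠ 1) ∨ Module.finrank K (Fin (2 * (m + 1)) → K) ≠ 4 := by
  refine (hgen_plus h).imp_right fun e => ?_
  rw [finrank_n]
  rw [Module.finrank_fintype_fun_eq_card, Fintype.card_sum, Fintype.card_fin] at e
  omega

theorem toGL_apply (g : oGroup (oqQ m K)) (a b : Fin (2 * (m + 1))) :
    ((toGL m K g : GL (Fin (2 * (m + 1))) K) : Matrix (Fin (2 * (m + 1))) (Fin (2 * (m + 1))) K) a b =
      g.1 (Pi.single b 1) a := by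
  show LinearMap.toMatrix' g.1.toLinearMap a b = _
  rw [LinearMap.toMatrix'_apply]
  congr 1

theorem toGL_injective : Function.Injective (toGL m K) := fun _ _ h =>
  (isoGroupEquiv (oqQ m K)).symm.injective (Subtype.ext h)

theorem toGL_range : (toGL m K).range = orth m K := by
  refine le_antisymm ?_ fun g hg => ?_
  · rintro _ ⟨g, rfl⟩
    exact mem_orth.2 fun v => ((isoGroupEquiv (oqQ m K)).symm g).2 v v
  · refine ⟨isoGroupEquiv (oqQ m K) ⟨g, fun v _ => mem_orth.1 hg v⟩, ?_⟩
    show (((isoGroupEquiv (oqQ m K)).symm (isoGroupEquiv (oqQ m K) ⟨g, _⟩)) : Cfsg.isometryGroup K ⇑(oqQ m K)).1 = g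
    rw [MulEquiv.symm_apply_apply]

theorem omg_eq : omg m K = (commutator (oGroup (oqQ m K))).map (toGL m K) := by
  rw [omg, ← toGL_range, MonoidHom.range_eq_map, ← Subgroup.map_commutator, ← commutator_def]

theorem polar_single_left (a : Fin (2 * (m + 1))) (v : Fin (2 * (m + 1)) → K) :
    polar (oqQ m K) (Pi.single a 1) v = v (Fin.rev a) := by
  rw [polar_oqQ, Finset.sum_eq_single a]
  · rw [Pi.single_eq_same, one_mul]
  · intro b _ hb
    rw [Pi.single_eq_of_ne hb, zero_mul]
  · simp

theorem polar_single_right (v : Fin (2 * (m + 1)) → K) (a : Fin (2 * (m + 1))) :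
    polar (oqQ m K) v (Pi.single a 1) = v (Fin.rev a) := by
  rw [polar_comm, polar_single_left]

theorem oqQ_single (a : Fin (2 * (m + 1))) : oqQ m K (Pi.single a 1) = 0 := by
  by_cases h : (a : ℕ) ≤ m
  · exact oqQ_zero_of_left fun k hk => Pi.single_eq_of_ne (fun e => by subst e; omega) _
  · exact oqQ_zero_of_right fun k hk => Pi.single_eq_of_ne (fun e => by subst e; omega) _

/-! ### The Levi subgroup -/

variable (m K) in
/-- The Levi subgroup. -/
noncomputable def lev : GL (Fin (m + 1)) K →* oGroup (oqQ m K) :=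
  (oGroupCongr (coordEquiv m K) coordEquiv_isom).toMonoidHom.comp (levi (m + 1))

theorem lev_apply (A : GL (Fin (m + 1)) K) (v : Fin (2 * (m + 1)) → K) :
    (lev m K A).1 v = coordEquiv m K ((levi (m + 1) A).1 ((coordEquiv m K).symm v)) := rfl

theorem lev_mem [Finite K] (h : Nat.card K ≠ 2 ∨ m + 1 ≠ 2) (A : GL (Fin (m + 1)) K)
    (hA : IsSquare (A : Matrix (Fin (m + 1)) (Fin (m + 1)) K).det) :
    lev m K A ∈ commutator (oGroup (oqQ m K)) := by
  have hm := Subgroup.mem_map_of_mem (oGroupCongr (coordEquiv m K) coordEquiv_isom).toMonoidHom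
    ((levi_mem_iff h A).2 hA)
  rw [commutator_def, Subgroup.map_commutator] at hm
  exact Subgroup.commutator_mono le_top le_top hm

theorem lev_left (A : GL (Fin (m + 1)) K) (i : Fin (m + 1)) :
    (lev m K A).1 (Pi.single (spIdx (m + 1) (Sum.inl i)) 1) = coordEquiv m K
      (Sum.elim (fun k => (A : Matrix (Fin (m + 1)) (Fin (m + 1)) K) k i) 0) := by
  rw [lev_apply]
  congr 1
  have e : (coordEquiv m K).symm (Pi.single (spIdx (m + 1) (Sum.inl i)) 1) = Pi.single (Sum.inl i) 1 := by
    rw [LinearEquiv.symm_apply_eq]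
    funext k
    simp only [coordEquiv, LinearEquiv.funCongrLeft_apply, LinearMap.funLeft_apply, Pi.single_apply,
      Equiv.symm_apply_eq]
  rw [e, levi_apply]
  funext k
  rcases k with k | k <;> simp [Matrix.mulVec, dotProduct, Pi.single_apply]

/-! ### Unipotent elements -/

theorem siegel_mem_omg [Finite K] (h : Nat.card K ≠ 2 ∨ m + 1 ≠ 2) (k : Fin (2 * (m + 1)))
    (hk : (k : ℕ) ≤ m) {a : Fin (2 * (m + 1)) → K} (hak : a k = 0)
    (ha : ∀ j : Fin (2 * (m + 1)), m + 1 ≤ (j : ℕ) → a j = 0) :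
    siegel (oqQ m K) (Pi.single k 1) a ∈ commutator (oGroup (oqQ m K)) := by
  have hn1 : m = 0 ∨ 5 ≤ Module.finrank K (Fin (2 * (m + 1)) → K) ∨ ∃ c : K, c ≠ 0 ∧ c ≠ 1 := by
    rw [finrank_n]
    rcases h with h | h
    · refine Or.inr (Or.inr ?_)
      by_contra hc
      push Not at hc
      haveI := Fintype.ofFinite K
      classical
      have : (Finset.univ : Finset K) ⊆ {0, 1} := fun x _ => by
        by_cases hx : x = 0
        · simp [hx]
        · simp [hc x hx]
      have h2 := Finset.card_le_card this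
      have h3 : ({0, 1} : Finset K).card ≤ 2 := Finset.card_le_two
      have h4 := Finite.one_lt_card (α := K)
      rw [Nat.card_eq_fintype_card] at h h4
      rw [Finset.card_univ] at h2
      omega
    · rcases Nat.eq_zero_or_pos m with h0 | h0
      · exact Or.inl h0
      · exact Or.inr (Or.inl (by omega))
  have he := oqQ_single (K := K) k
  have hea : polar (oqQ m K) (Pi.single k 1) a = 0 := by
    rw [polar_single_left]; exact ha _ (by rw [Fin.val_rev]; omega)
  rcases hn1 with h0 | h5 | ⟨c, hc0, hc1⟩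
  · have : a = 0 := funext fun j => by
      by_cases hj : m + 1 ≤ (j : ℕ)
      · exact ha j hj
      · rw [show j = k from Fin.ext (by omega), hak]; rfl
    rw [this, siegel_zero he]
    exact one_mem _
  · exact siegel_mem_commutator oqQ_nondeg h5 he hea
  · obtain ⟨i, rfl⟩ : ∃ i, spIdx (m + 1) (Sum.inl i) = k := ⟨⟨k, by omega⟩, Fin.ext rfl⟩
    let d : Fin (m + 1) → Kˣ := Function.update 1 i (Units.mk0 c hc0)
    let A : GL (Fin (m + 1)) K := CfsgLib.Pronormal.diagGL d
    set e : Fin (2 * (m + 1)) → K := Pi.single (spIdx (m + 1) (Sum.inl i)) 1 with he'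
    have hLe : (lev m K A).1 e = c • e := by
      rw [he', lev_left]
      funext j
      obtain ⟨j', rfl⟩ := (spIdx (m + 1)).surjective j
      simp only [coordEquiv, LinearEquiv.funCongrLeft_apply, LinearMap.funLeft_apply, Equiv.symm_apply_apply,
        Pi.smul_apply, Pi.single_apply, Equiv.apply_eq_iff_eq]
      rcases j' with j' | j'
      · simp only [Sum.elim_inl, A, diagGL_val, Matrix.diagonal_apply, Sum.inl.injEq]
        by_cases hj : j' = i
        · subst hj; simp [d]
        · simp [hj]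
      · simp
    have hLa : (lev m K A).1 a = a := by
      rw [lev_apply]
      conv_rhs => rw [← (coordEquiv m K).apply_symm_apply a]
      congr 1
      have hr : ∀ r, (coordEquiv m K).symm a r = a (spIdx (m + 1) r) := fun r => by
        conv_rhs => rw [← (coordEquiv m K).apply_symm_apply a]
        simp [coordEquiv, LinearEquiv.funCongrLeft_apply, LinearMap.funLeft_apply]
      rw [levi_apply]
      funext r
      rcases r with r | r
      · simp only [Sum.elim_inl, A, diagGL_val, Matrix.mulVec_diagonal, Function.comp_apply, hr]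
        by_cases hj : r = i
        · subst hj; rw [hak, mul_zero]
        · simp [d, hj]
      · have hz : (coordEquiv m K).symm a ∘ Sum.inr = 0 := funext fun r => by
          rw [Function.comp_apply, hr]; exact ha _ (by rw [spIdx_inr]; omega)
        simp only [Sum.elim_inr, hz, Matrix.mulVec_zero, Pi.zero_apply]
        exact (congrFun hz r).symm
    have hsm : ∀ r : K, polar (oqQ m K) e (r • a) = 0 := fun r => by
      rw [polar_smul_right, hea, smul_zero]
    set s := siegel (oqQ m K) e ((c - 1)⁻¹ • a)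
    have hcomm : lev m K A * s * (lev m K A)⁻¹ * s⁻¹ = siegel (oqQ m K) e a := by
      rw [siegel_conj _ he (hsm _), map_smul, hLe, hLa, siegel_smul he (hsm _),
        siegel_inv he (hsm _), siegel_mul he (by rw [smul_smul]; exact hsm _) (by rw [← neg_smul]; exact hsm _)]
      congr 1
      rw [smul_smul, ← neg_smul, ← add_smul,
        show c * (c - 1)⁻¹ + -(c - 1)⁻¹ = 1 by
          have : c - 1 ≠ 0 := sub_ne_zero.2 hc1
          field_simp; ring, one_smul]
    rw [← hcomm]
    exact Subgroup.commutator_mem_commutator (Subgroup.mem_top _) (Subgroup.mem_top _)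

theorem fixes_left_mem [Finite K] (h : Nat.card K ≠ 2 ∨ m + 1 ≠ 2) {g : oGroup (oqQ m K)}
    (hg : ∀ j : Fin (2 * (m + 1)), (j : ℕ) ≤ m → g.1 (Pi.single j 1) = Pi.single j 1) :
    g ∈ commutator (oGroup (oqQ m K)) := by
  suffices key : ∀ (s : Finset (Fin (2 * (m + 1)))) (g : oGroup (oqQ m K)),
      (∀ j ∈ s, m + 1 ≤ (j : ℕ)) → (∀ j, j ∉ s → g.1 (Pi.single j 1) = Pi.single j 1) →
      g ∈ commutator (oGroup (oqQ m K)) by
    refine key (Finset.univ.filter fun j => m + 1 ≤ (j : ℕ)) g (fun j hj => (Finset.mem_filter.1 hj).2)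
      fun j hj => hg j ?_
    simp at hj
    omega
  intro s
  induction s using Finset.induction_on with
  | empty =>
    intro g _ hg
    rw [show g = 1 from Subtype.ext (LinearEquiv.toLinearMap_injective
      ((Pi.basisFun K (Fin (2 * (m + 1)))).ext fun i => by
        rw [Pi.basisFun_apply]; exact hg i (Finset.notMem_empty _)))]
    exact one_mem _
  | insert y s hy ih =>
    intro g hs hg
    have hy' : m + 1 ≤ (y : ℕ) := hs y (Finset.mem_insert_self _ _)
    set k := Fin.rev y with hk
    have hk' : (k : ℕ) ≤ m := by rw [hk, Fin.val_rev]; omega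
    have hleft : ∀ j : Fin (2 * (m + 1)), (j : ℕ) ≤ m → g.1 (Pi.single j 1) = Pi.single j 1 := fun j hj =>
      hg j fun hjs => by have := hs j hjs; omega
    set a : Fin (2 * (m + 1)) → K := g.1 (Pi.single y 1) - Pi.single y 1 with ha
    have hfix : ∀ j : Fin (2 * (m + 1)), g.1 (Pi.single j 1) = Pi.single j 1 → a (Fin.rev j) = 0 := by
      intro j hj
      rw [ha, Pi.sub_apply]
      have e := polar_oGroup g (Pi.single j 1) (Pi.single y 1)
      rw [hj, polar_single_left, polar_single_left] at e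
      rw [e, sub_self]
    have ha_right : ∀ j : Fin (2 * (m + 1)), m + 1 ≤ (j : ℕ) → a j = 0 := fun j hj => by
      have := hfix (Fin.rev j) (hleft _ (by rw [Fin.val_rev]; omega))
      rwa [Fin.rev_rev] at this
    have hak : a k = 0 := by
      have e := g.2 (Pi.single y 1)
      rw [show g.1 (Pi.single y 1) = a + Pi.single y 1 by rw [ha, sub_add_cancel], quad_add, oqQ_single,
        oqQ_zero_of_left ha_right, polar_single_right] at e
      simpa [hk] using e
    have he := oqQ_single (K := K) k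
    have hea : polar (oqQ m K) (Pi.single k 1) a = 0 := by
      rw [polar_single_left, hk, Fin.rev_rev]; exact ha_right y hy'
    have hS := siegel_mem_omg h k hk' hak ha_right
    set S := siegel (oqQ m K) (Pi.single k 1) a
    have hSy : S.1 (Pi.single y 1) = g.1 (Pi.single y 1) := by
      rw [siegel_apply he hea, polar_single_right, polar_single_left, oqQ_zero_of_left ha_right]
      simp only [hk, Fin.rev_rev, Pi.single_eq_same, one_smul, mul_one, add_zero]
      rw [show a (Fin.rev y) = 0 from hk ▸ hak, zero_smul, sub_zero, ha, add_sub_cancel]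
    have hSfix : ∀ j, j ∉ insert y s → S.1 (Pi.single j 1) = Pi.single j 1 := by
      intro j hj
      have hne : j ≠ y := fun e => hj (e ▸ Finset.mem_insert_self _ _)
      rw [siegel_apply he hea, polar_single_right, polar_single_left, hfix j (hg j hj)]
      simp [hk, hne.symm]
    have := ih (S⁻¹ * g) (fun j hj => hs j (Finset.mem_insert_of_mem hj)) fun j hj => by
      show S.1.symm (g.1 (Pi.single j 1)) = _
      rw [LinearEquiv.symm_apply_eq]
      by_cases hjy : j = y
      · rw [hjy, hSy]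
      · rw [hg j (by simp [hjy, hj]), hSfix j (by simp [hjy, hj])]
    simpa using mul_mem hS this

theorem unitri_mem_omg [Finite K] (h : Nat.card K ≠ 2 ∨ m + 1 ≠ 2) {g : GL (Fin (2 * (m + 1))) K}
    (hg : g ∈ orth m K) (hU : g ∈ unitri (2 * (m + 1)) K) : g ∈ omg m K := by
  rw [← toGL_range] at hg
  obtain ⟨γ, rfl⟩ := hg
  rw [omg_eq]
  refine ⟨γ, ?_, rfl⟩
  set M : Matrix (Fin (m + 1)) (Fin (m + 1)) K := fun k i =>
    γ.1 (Pi.single (spIdx (m + 1) (Sum.inl i)) 1) (spIdx (m + 1) (Sum.inl k)) with hM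
  have hM' : ∀ k i, M k i = ((toGL m K γ : GL (Fin (2 * (m + 1))) K) :
      Matrix (Fin (2 * (m + 1))) (Fin (2 * (m + 1))) K) (spIdx (m + 1) (Sum.inl k))
        (spIdx (m + 1) (Sum.inl i)) := fun k i => (toGL_apply _ _ _).symm
  have hdet : M.det = 1 := by
    rw [Matrix.det_of_isUpperTriangular]
    · simp only [hM', hU.2, Finset.prod_const_one]
    · intro k i hki
      rw [hM']
      exact upper_apply hU.1 (Fin.lt_def.2 (by rw [spIdx_inl, spIdx_inl]; exact hki))
  let A : GL (Fin (m + 1)) K := Matrix.GeneralLinearGroup.mkOfDetNeZero M (by rw [hdet]; exact one_ne_zero)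
  have hA : lev m K A ∈ commutator (oGroup (oqQ m K)) := lev_mem h A (by
    show IsSquare M.det
    rw [hdet]; exact IsSquare.one)
  have h0 : (lev m K A)⁻¹ * γ ∈ commutator (oGroup (oqQ m K)) := fixes_left_mem h fun j hj => by
    show (lev m K A).1.symm (γ.1 (Pi.single j 1)) = _
    rw [LinearEquiv.symm_apply_eq]
    obtain ⟨i, rfl⟩ : ∃ i, spIdx (m + 1) (Sum.inl i) = j := ⟨⟨j, by omega⟩, Fin.ext rfl⟩
    rw [lev_left]
    funext r
    obtain ⟨r', rfl⟩ := (spIdx (m + 1)).surjective r
    simp only [coordEquiv, LinearEquiv.funCongrLeft_apply, LinearMap.funLeft_apply, Equiv.symm_apply_apply]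
    rcases r' with r' | r'
    · rfl
    · rw [Sum.elim_inr, Pi.zero_apply, ← toGL_apply]
      exact upper_apply hU.1 (Fin.lt_def.2 (by rw [spIdx_inl, spIdx_inr]; omega))
  simpa using mul_mem hA h0

/-! ### Monomial elements -/

theorem mono_pair {t : Fin (2 * (m + 1)) → Kˣ} {π : Equiv.Perm (Fin (2 * (m + 1)))}
    (h : monoGL t π ∈ orth m K) (j : Fin (2 * (m + 1))) : (t j : K) * (t (Fin.rev j) : K) = 1 := by
  have hc := revComm_of_fixed (mem_orth_iff.1 h).1
  have hf := (twist_iff_polar (monoGL t π)).1 (mem_orth_iff.1 h).1 (Pi.single (π.symm j) 1)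
    (Pi.single (Fin.rev (π.symm j)) 1)
  have e : ∀ l, ((monoGL t π : GL (Fin (2 * (m + 1))) K) : Matrix (Fin (2 * (m + 1))) (Fin (2 * (m + 1))) K) *ᵥ
      Pi.single l 1 = Pi.single (π l) (t (π l) : K) := fun l => by
    rw [Matrix.mulVec_single_one]
    funext r
    show ((monoGL t π : GL (Fin (2 * (m + 1))) K) : Matrix (Fin (2 * (m + 1))) (Fin (2 * (m + 1))) K) r l = _
    rw [monoGL_apply, Pi.single_apply]
    by_cases hr : π l = r
    · subst hr; simp
    · rw [if_neg hr, if_neg (Ne.symm hr)]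
  rw [e, e, hc, Equiv.apply_symm_apply, polar_oqQ, polar_single_left, Pi.single_eq_same,
    Finset.sum_eq_single j] at hf
  · rwa [Pi.single_eq_same, Pi.single_eq_same] at hf
  · intro b _ hb
    rw [Pi.single_eq_of_ne hb, zero_mul]
  · simp

theorem exists_lev [Finite K] {t : Fin (2 * (m + 1)) → Kˣ} {π : Equiv.Perm (Fin (2 * (m + 1)))}
    (h : monoGL t π ∈ orth m K) (hπ : ∀ j : Fin (2 * (m + 1)), (j : ℕ) ≤ m → ((π j : Fin _) : ℕ) ≤ m) :
    ∃ A, toGL m K (lev m K A) = monoGL t π := by
  have hc := revComm_of_fixed (mem_orth_iff.1 h).1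
  have hright : ∀ j : Fin (2 * (m + 1)), m + 1 ≤ (j : ℕ) → m + 1 ≤ ((π j : Fin _) : ℕ) := by
    intro j hj
    have := hπ (Fin.rev j) (by rw [Fin.val_rev]; omega)
    rw [hc, Fin.val_rev] at this
    omega
  rw [← toGL_range] at h
  obtain ⟨γ, hγ⟩ := h
  set ψ := oGroupCongr (coordEquiv m K) (coordEquiv_isom (m := m) (K := K))
  have hval : ∀ (v : Fin (m + 1) ⊕ Fin (m + 1) → K) r, (ψ.symm γ).1 v r =
      t (spIdx (m + 1) r) * coordEquiv m K v (π.symm (spIdx (m + 1) r)) := by
    intro v r
    obtain ⟨δ, rfl⟩ := ψ.surjective γ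
    rw [MulEquiv.symm_apply_apply]
    have h1 : (ψ δ).1 (coordEquiv m K v) = coordEquiv m K (δ.1 v) := by
      show coordEquiv m K (δ.1 ((coordEquiv m K).symm (coordEquiv m K v))) = _
      rw [LinearEquiv.symm_apply_apply]
    have h2 : δ.1 v r = (ψ δ).1 (coordEquiv m K v) (spIdx (m + 1) r) := by
      rw [h1]; simp [coordEquiv, LinearEquiv.funCongrLeft_apply, LinearMap.funLeft_apply]
    rw [h2]
    set w := coordEquiv m K v
    have h3 : (ψ δ).1 w = ((monoGL t π : GL (Fin (2 * (m + 1))) K) :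
        Matrix (Fin (2 * (m + 1))) (Fin (2 * (m + 1))) K) *ᵥ w := by
      rw [← hγ]
      exact (LinearMap.toMatrix'_mulVec (ψ δ).1.toLinearMap w).symm
    rw [h3, Matrix.mulVec, dotProduct, Finset.sum_eq_single (π.symm (spIdx (m + 1) r))]
    · rw [monoGL_apply, if_pos (Equiv.apply_symm_apply _ _)]
    · intro b _ hb
      rw [monoGL_apply, if_neg fun e => hb (by rw [← e, Equiv.symm_apply_apply]), zero_mul]
    · simp
  obtain ⟨A, hA⟩ := exists_eq_levi (ψ.symm γ) (fun v hv i => by
      rw [hval]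
      obtain ⟨k, hk⟩ := (spIdx (m + 1)).surjective (π.symm (spIdx (m + 1) (Sum.inr i)))
      rw [← hk, show coordEquiv m K v (spIdx (m + 1) k) = v k by
        simp [coordEquiv, LinearEquiv.funCongrLeft_apply, LinearMap.funLeft_apply]]
      rcases k with k | k
      · exfalso
        have h1 := hπ _ (show ((spIdx (m + 1) (Sum.inl k) : Fin _) : ℕ) ≤ m by rw [spIdx_inl]; omega)
        rw [hk, Equiv.apply_symm_apply, spIdx_inr] at h1
        omega
      · rw [hv, mul_zero]) (fun v hv i => by
      rw [hval]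
      obtain ⟨k, hk⟩ := (spIdx (m + 1)).surjective (π.symm (spIdx (m + 1) (Sum.inl i)))
      rw [← hk, show coordEquiv m K v (spIdx (m + 1) k) = v k by
        simp [coordEquiv, LinearEquiv.funCongrLeft_apply, LinearMap.funLeft_apply]]
      rcases k with k | k
      · rw [hv, mul_zero]
      · exfalso
        have h1 := hright _ (show m + 1 ≤ ((spIdx (m + 1) (Sum.inr k) : Fin _) : ℕ) by rw [spIdx_inr]; omega)
        rw [hk, Equiv.apply_symm_apply, spIdx_inl] at h1
        omega)
  refine ⟨A, ?_⟩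
  rw [← hγ, show lev m K A = ψ (levi (m + 1) A) from rfl, ← hA, MulEquiv.apply_symm_apply]

theorem tau_eq_refl : toGL m K (refl (oqQ m K) (Pi.single (mid m) 1 - Pi.single (Fin.rev (mid m)) 1)) =
    tauGL m K ∧ oqQ m K (Pi.single (mid m) 1 - Pi.single (Fin.rev (mid m)) (1 : K)) ≠ 0 := by
  have hne : mid m ≠ Fin.rev (mid m) := fun e => by
    have := congrArg Fin.val e; simp [mid, Fin.val_rev] at this; omega
  set d : Fin (2 * (m + 1)) → K := Pi.single (mid m) 1 - Pi.single (Fin.rev (mid m)) 1 with hd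
  have hQd : oqQ m K d = -1 := by
    rw [hd, sub_eq_add_neg, ← neg_one_smul K (Pi.single (Fin.rev (mid m)) 1 : Fin (2 * (m + 1)) → K), quad_add,
      quad_smul, oqQ_single, oqQ_single, polar_smul_right, polar_single_left, Pi.single_eq_same]
    simp
  refine ⟨Units.ext (Matrix.ext fun a b => ?_), by rw [hQd]; exact neg_ne_zero.2 one_ne_zero⟩
  rw [toGL_apply, refl_apply, polar_single_left, hQd, tauGL, monoGL_apply]
  simp only [hd, Pi.sub_apply, Pi.add_apply, Pi.smul_apply, smul_eq_mul, Pi.single_apply, Fin.rev_inj,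
    Pi.one_apply, Units.val_one, inv_neg, inv_one, neg_neg, one_mul]
  simp only [show (Fin.rev b = mid m) ↔ (b = Fin.rev (mid m)) from ⟨fun e => by rw [← e, Fin.rev_rev],
    fun e => by rw [e, Fin.rev_rev]⟩]
  simp only [tau, Equiv.swap_apply_def]
  rcases eq_or_ne b (mid m) with rfl | h1
  · rcases eq_or_ne a (mid m) with rfl | h2
    · simp [hne, hne.symm]
    · rcases eq_or_ne a (Fin.rev (mid m)) with rfl | h3
      · simp [hne, hne.symm]
      · simp [hne, h2, h3, Ne.symm h3]
  · rcases eq_or_ne b (Fin.rev (mid m)) with rfl | h1'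
    · rcases eq_or_ne a (mid m) with rfl | h2
      · simp [hne, hne.symm]
      · rcases eq_or_ne a (Fin.rev (mid m)) with rfl | h3
        · simp [hne, hne.symm]
        · simp [hne.symm, h2, h3, Ne.symm h2]
    · simp [h1, h1', eq_comm]

theorem parity_perm [Finite K] [CharP K 2] (h : Nat.card K ≠ 2 ∨ m + 1 ≠ 2)
    {ε : oGroup (oqQ m K) →* ℤˣ} (hε : ∀ v, oqQ m K v ≠ 0 → ε (refl (oqQ m K) v) = -1) :
    ∀ π : Equiv.Perm (Fin (2 * (m + 1))), RevComm π →
      ∃ γ, toGL m K γ = monoGL 1 π ∧ ε γ = Equiv.Perm.sign π := by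
  intro π
  obtain ⟨k, hk⟩ : ∃ k : ℕ, wt π = k := ⟨_, rfl⟩
  induction k using Nat.strong_induction_on generalizing π with
  | _ k ih =>
  intro hc
  by_cases h1 : π = 1
  · subst h1
    exact ⟨1, by rw [map_one]; simp [monoGL], by rw [map_one, map_one]⟩
  obtain ⟨i, hi⟩ := exists_descent hc h1
  have hlt := wt_lt' (weight_lt (π := π) (sg_apply_apply i) ⟨pt i, (pt_lt_sg i).ne'⟩
    (asc_of_lt (hc.mul (sg_comm i)) (by
      rw [Equiv.Perm.mul_apply, Equiv.Perm.mul_apply, sg_apply_apply]; exact hi)))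
  obtain ⟨γ, hγ, hεγ⟩ := ih _ (hk ▸ hlt) _ rfl (hc.mul (sg_comm i))
  obtain ⟨δ, hδ, hεδ⟩ : ∃ δ, toGL m K δ = monoGL 1 (sg i) ∧ ε δ = Equiv.Perm.sign (sg i) := by
    by_cases him : (i : ℕ) < m
    · obtain ⟨A, hA⟩ := exists_lev (K := K) (perm_mem_orth (sg_comm i)) fun j hj => by
        rw [sg_apply, if_pos (by omega)]
        split_ifs <;> omega
      refine ⟨_, hA, ?_⟩
      rw [MonoidHom.mem_ker.1 (Abelianization.commutator_subset_ker ε (lev_mem h A (isSquare_char_two _))),
        show i = bIx m ⟨i, him⟩ from rfl, sign_sg]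
    · have him' : (i : ℕ) = m := by have := i.isLt; omega
      have e : sg i = tau m := by
        rw [sg, if_neg (by omega), tau, show pt i = mid m from Fin.ext him']
      refine ⟨_, by rw [e]; exact tau_eq_refl.1, ?_⟩
      rw [hε _ tau_eq_refl.2, e, sign_tau]
  refine ⟨γ * δ, ?_, ?_⟩
  · rw [map_mul, hγ, hδ, monoGL_mul, mul_assoc, sg_sg, mul_one]
    congr 1
    funext j
    simp
  · rw [map_mul, hεγ, hεδ, ← map_mul, mul_assoc, sg_sg, mul_one]

theorem parity_mono [Finite K] [CharP K 2] (h : Nat.card K ≠ 2 ∨ m + 1 ≠ 2)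
    {ε : oGroup (oqQ m K) →* ℤˣ} (hε : ∀ v, oqQ m K v ≠ 0 → ε (refl (oqQ m K) v) = -1)
    {γ : oGroup (oqQ m K)} {t : Fin (2 * (m + 1)) → Kˣ} {π : Equiv.Perm (Fin (2 * (m + 1)))}
    (hγ : toGL m K γ = monoGL t π) : ε γ = Equiv.Perm.sign π := by
  have hO : monoGL t π ∈ orth m K := hγ ▸ toGL_range (m := m) (K := K) ▸ ⟨γ, rfl⟩
  have hc := revComm_of_fixed (mem_orth_iff.1 hO).1
  obtain ⟨p, hp, hεp⟩ := parity_perm h hε π hc
  have hd : toGL m K (γ * p⁻¹) = monoGL t 1 := by
    rw [map_mul, map_inv, hγ, hp, monoGL_inv, monoGL_mul, mul_inv_cancel]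
    congr 1
    funext j
    simp
  have hdO : monoGL t 1 ∈ orth m K := hd ▸ toGL_range (m := m) (K := K) ▸ ⟨_, rfl⟩
  obtain ⟨A, hA⟩ := exists_lev hdO fun j hj => hj
  have e : ε (γ * p⁻¹) = 1 := by
    rw [toGL_injective (hd.trans hA.symm)]
    exact MonoidHom.mem_ker.1 (Abelianization.commutator_subset_ker ε (lev_mem h A (isSquare_char_two _)))
  rw [map_mul, map_inv, mul_inv_eq_one] at e
  rw [e, hεp]

theorem sign_of_mono_mem [Finite K] (h : Nat.card K ≠ 2 ∨ m + 1 ≠ 2) {t : Fin (2 * (m + 1)) → Kˣ}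
    {π : Equiv.Perm (Fin (2 * (m + 1)))} (hm : monoGL t π ∈ omg m K) : Equiv.Perm.sign π = 1 := by
  rcases two_ne_zero_or_charP (F := K) with h2 | h2
  · have hO : monoGL t π ∈ orth m K := by
      exact Subgroup.commutator_le.2 (fun a ha b hb => mul_mem (mul_mem (mul_mem ha hb) (inv_mem ha)) (inv_mem hb)) hm
    have hdet : Matrix.GeneralLinearGroup.det (monoGL t π) = 1 :=
      MonoidHom.mem_ker.1 (Abelianization.commutator_subset_ker Matrix.GeneralLinearGroup.det
        (Subgroup.commutator_mono le_top le_top hm))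
    have hprod : (∏ j, (t j : K)) = 1 := by
      rw [← (spIdx (m + 1)).prod_comp, Fintype.prod_sum_type, ← Finset.prod_mul_distrib]
      refine Finset.prod_eq_one fun i _ => ?_
      rw [← rev_left]
      exact mono_pair hO _
    have e := congrArg Units.val hdet
    rw [Matrix.GeneralLinearGroup.val_det_apply, Units.val_one, monoGL, Units.val_mul, Matrix.det_mul,
      diagGL_val, Matrix.det_diagonal, hprod, one_mul] at e
    have hperm : (CfsgLib.GLn.permGL K π : Matrix (Fin (2 * (m + 1))) (Fin (2 * (m + 1))) K).det =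
        ((Equiv.Perm.sign π : ℤ) : K) := by
      have : (CfsgLib.GLn.permGL K π : Matrix (Fin (2 * (m + 1))) (Fin (2 * (m + 1))) K) =
          (π⁻¹).permMatrix K := by
        ext a b
        rw [CfsgLib.GLn.permGL_apply, Equiv.Perm.permMatrix]
        simp only [PEquiv.toMatrix_apply, Equiv.Perm.inv_def, Equiv.toPEquiv_apply, Option.mem_def, Option.some.injEq]
        by_cases hab : π b = a
        · rw [← hab]; simp
        · rw [if_neg hab, if_neg fun e => hab (by rw [← e, Equiv.apply_symm_apply])]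
      rw [this, Matrix.det_permutation, Equiv.Perm.sign_inv]
    rw [hperm] at e
    rcases Int.units_eq_one_or (Equiv.Perm.sign π) with s | s
    · exact s
    · rw [s] at e
      simp at e
      exact absurd (by linear_combination -e : (2 : K) = 0) h2
  · obtain ⟨ε, hε⟩ := exists_parity oqQ_nondeg (hgen_oq h)
    rw [omg_eq] at hm
    obtain ⟨γ, hγ, e⟩ := hm
    rw [← parity_mono h hε e]
    exact MonoidHom.mem_ker.1 (Abelianization.commutator_subset_ker ε hγ)

end CfsgLib.StGen
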