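import Cfsg.Agent.Geo.ExtEmbed
import Cfsg.Agent.StGen.PlusOmega

/-!
# Orthogonal groups of minus type as twisted fixed points over a quadratic extension
-/

set_option autoImplicit false
set_option linter.unusedSectionVars false
set_option linter.style.haveILetI false

namespace CfsgLib.StGen

open Matrix QuadraticMap CfsgLib.Pronormal CfsgLib.Unitary CfsgLib.StClassical CfsgLib.Quad CfsgLib.Forms
open scoped MatrixGroups

universe u

/-- A quadratic extension splitting the anisotropic binary form. -/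
structure Ext (F : Type u) (K : Type u) [Field F] [Field K] (a b : F) where
  ι : F →+* K
  σ : K →+* K
  r : K
  σι : ∀ x, σ (ι x) = ι x
  σσ : ∀ z, σ (σ z) = z
  fix : ∀ z, σ z = z → ∃ y, ι y = z
  ne : σ r ≠ r
  sum : r + σ r = -ι a
  prod : r * σ r = ι b

theorem exists_ext {F : Type u} [Field F] [Finite F] {a b : F}
    (hab : ∀ z₁ z₂ : F, z₁ ^ 2 + a * z₁ * z₂ + b * z₂ ^ 2 = 0 → z₁ = 0 ∧ z₂ = 0) :
    ∃ (K : Type u) (_ : Field K) (_ : Finite K) (_ : Ext F K a b), Nat.card K = Nat.card F ^ 2 := by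
  haveI := Fintype.ofFinite F
  let P : Polynomial F := Polynomial.X ^ 2 + Polynomial.C a * Polynomial.X + Polynomial.C b
  have hd : P.natDegree = 2 := by simp only [P]; compute_degree!
  have hirr : Irreducible P := by
    rw [Polynomial.irreducible_iff_roots_eq_zero_of_degree_le_three hd.ge (by omega)]
    refine Multiset.eq_zero_of_forall_notMem fun t ht => CfsgLib.Geo.ExtEmbed.no_root hab t ?_
    simpa [P] using (Polynomial.mem_roots'.1 ht).2
  haveI := Fact.mk hirr
  haveI : FiniteDimensional F (AdjoinRoot P) := (AdjoinRoot.powerBasis hirr.ne_zero).finite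
  haveI hfin : Finite (AdjoinRoot P) := Module.finite_of_finite F
  have hK : Nat.card (AdjoinRoot P) = Nat.card F ^ 2 := by
    rw [Module.natCard_eq_pow_finrank (K := F), (AdjoinRoot.powerBasis hirr.ne_zero).finrank,
      AdjoinRoot.powerBasis_dim, hd]
  let ι : F →+* AdjoinRoot P := algebraMap F (AdjoinRoot P)
  have hι : ∀ x, ι x ^ Nat.card F = ι x := fun x => by
    rw [← map_pow, Nat.card_eq_fintype_card, FiniteField.pow_card]
  obtain ⟨r, hr, h2, h3⟩ := CfsgLib.Geo.ExtEmbed.exists_root hK rfl ι hι hab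
  refine ⟨AdjoinRoot P, inferInstance, hfin, ⟨ι, CfsgLib.Forms.frobQ hK, r, fun x => ?_, fun z => ?_,
    fun z hz => ?_, ?_, ?_, ?_⟩, hK⟩
  · rw [CfsgLib.Forms.frobQ_apply]; exact hι x
  · haveI := Fintype.ofFinite (AdjoinRoot P)
    rw [CfsgLib.Forms.frobQ_apply, CfsgLib.Forms.frobQ_apply, ← pow_mul, ← pow_two, ← hK,
      Nat.card_eq_fintype_card, FiniteField.pow_card]
  · rw [CfsgLib.Forms.frobQ_apply] at hz
    obtain ⟨t, ht⟩ := CfsgLib.RestrictScalars.mem_range_of_pow hK rfl ι hι hz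
    exact ⟨t, ht⟩
  · rw [CfsgLib.Forms.frobQ_apply]; exact hr
  · rw [CfsgLib.Forms.frobQ_apply]; exact h2
  · rw [CfsgLib.Forms.frobQ_apply]; exact h3

section Coordinates

variable (m : ℕ)

/-- Coordinates of the minus form. -/
def miIdx : (Fin m ⊕ Fin m) ⊕ Fin 2 ≃ Fin (2 * (m + 1)) where
  toFun := Sum.elim (Sum.elim (fun i => ⟨i, by omega⟩) (fun i => ⟨2 * m + 1 - i, by omega⟩))
    (fun z => ⟨m + z, by omega⟩)
  invFun j := if h : (j : ℕ) < m then Sum.inl (Sum.inl ⟨j, h⟩)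
    else if h' : m + 2 ≤ (j : ℕ) then Sum.inl (Sum.inr ⟨2 * m + 1 - j, by omega⟩)
    else Sum.inr ⟨j - m, by omega⟩
  left_inv := by
    rintro ((i | i) | z)
    · simp
    · have h : ¬ 2 * m + 1 - (i : ℕ) < m := by omega
      have h' : m + 2 ≤ 2 * m + 1 - (i : ℕ) := by omega
      simp only [Sum.elim_inl, Sum.elim_inr]
      refine (dif_neg h).trans ((dif_pos h').trans ?_)
      refine congrArg Sum.inl (congrArg Sum.inr (Fin.ext ?_))
      show 2 * m + 1 - (2 * m + 1 - (i : ℕ)) = i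
      omega
    · have h : ¬ m + (z : ℕ) < m := by omega
      have h' : ¬ m + 2 ≤ m + (z : ℕ) := by omega
      simp only [Sum.elim_inr]
      refine (dif_neg h).trans ((dif_neg h').trans ?_)
      refine congrArg Sum.inr (Fin.ext ?_)
      show m + (z : ℕ) - m = z
      omega
  right_inv j := by
    by_cases h : (j : ℕ) < m
    · simp [h]
    · by_cases h' : m + 2 ≤ (j : ℕ)
      · simp only [dif_neg h, dif_pos h', Sum.elim_inl, Sum.elim_inr, Fin.ext_iff]
        omega
      · simp only [dif_neg h, dif_neg h', Sum.elim_inr, Fin.ext_iff]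
        omega

theorem rev_mid_val : ((Fin.rev (mid m) : Fin (2 * (m + 1))) : ℕ) = m + 1 := by
  rw [Fin.val_rev]; simp only [mid]; omega

theorem mid_ne : mid m ≠ Fin.rev (mid m) := fun e => by
  have := congrArg Fin.val e
  rw [rev_mid_val] at this
  simp [mid] at this

theorem miIdx_zero : miIdx m (Sum.inr 0) = mid m := Fin.ext rfl

theorem miIdx_one : miIdx m (Sum.inr 1) = Fin.rev (mid m) := Fin.ext (by
  rw [rev_mid_val]; simp [miIdx])

end Coordinates

variable {m : ℕ} {F K : Type u} [Field F] [Field K] {a b : F} (E : Ext F K a b)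

namespace Ext

/-- The coordinate change over the extension. -/
def pLin (E : Ext F K a b) (m : ℕ) : ((Fin m ⊕ Fin m) ⊕ Fin 2 → K) →ₗ[K] (Fin (2 * (m + 1)) → K) where
  toFun v k := if k = mid m then v (Sum.inr 0) - E.r * v (Sum.inr 1)
    else if k = Fin.rev (mid m) then v (Sum.inr 0) - E.σ E.r * v (Sum.inr 1)
    else v ((miIdx m).symm k)
  map_add' u v := by
    funext k
    simp only [Pi.add_apply]
    split_ifs <;> ring
  map_smul' c v := by
    funext k
    simp only [Pi.smul_apply, smul_eq_mul, RingHom.id_apply]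
    split_ifs <;> ring

theorem pLin_mid (v : (Fin m ⊕ Fin m) ⊕ Fin 2 → K) :
    E.pLin m v (mid m) = v (Sum.inr 0) - E.r * v (Sum.inr 1) := if_pos rfl

theorem pLin_mid' (v : (Fin m ⊕ Fin m) ⊕ Fin 2 → K) :
    E.pLin m v (Fin.rev (mid m)) = v (Sum.inr 0) - E.σ E.r * v (Sum.inr 1) :=
  (if_neg (mid_ne m).symm).trans (if_pos rfl)

theorem pLin_other (v : (Fin m ⊕ Fin m) ⊕ Fin 2 → K) (i : Fin m ⊕ Fin m) :
    E.pLin m v (miIdx m (Sum.inl i)) = v (Sum.inl i) := by
  refine (if_neg ?_).trans ((if_neg ?_).trans ?_)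
  · rw [← miIdx_zero]; simp
  · rw [← miIdx_one]; simp
  · rw [Equiv.symm_apply_apply]

theorem pLin_injective : Function.Injective (E.pLin m) := by
  rw [injective_iff_map_eq_zero]
  intro v hv
  have e0 := E.pLin_mid v
  have e1 := E.pLin_mid' v
  rw [hv, Pi.zero_apply] at e0 e1
  have h1 : v (Sum.inr 1) = 0 := by
    refine (mul_eq_zero.mp ?_).resolve_left (sub_ne_zero.mpr E.ne)
    linear_combination e1 - e0
  funext j
  rcases j with i | z
  · rw [← E.pLin_other v i, hv]; rfl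
  · fin_cases z
    · show v (Sum.inr 0) = 0
      linear_combination E.r * h1 - e0
    · exact h1

/-- The coordinate change. -/
noncomputable def pEquiv (E : Ext F K a b) (m : ℕ) :
    ((Fin m ⊕ Fin m) ⊕ Fin 2 → K) ≃ₗ[K] (Fin (2 * (m + 1)) → K) :=
  LinearEquiv.ofBijective (E.pLin m) ⟨E.pLin_injective,
    (LinearMap.injective_iff_surjective_of_finrank_eq_finrank (by simp; omega)).mp E.pLin_injective⟩

theorem oqQ_pEquiv (v : (Fin m ⊕ Fin m) ⊕ Fin 2 → K) :
    oqQ m K (E.pEquiv m v) = minusQ m (E.ι a) (E.ι b) v := by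
  show oqQ m K (E.pLin m v) = _
  rw [oqQ_apply, minusQ_coe, Cfsg.quadFormMinus, Fin.sum_univ_castSucc]
  have e1 : spIdx (m + 1) (Sum.inl (Fin.last m)) = mid m := Fin.ext rfl
  have e2 : spIdx (m + 1) (Sum.inr (Fin.last m)) = Fin.rev (mid m) := by rw [← rev_left, e1]
  have e3 : ∀ i : Fin m, spIdx (m + 1) (Sum.inl i.castSucc) = miIdx m (Sum.inl (Sum.inl i)) := fun i =>
    Fin.ext rfl
  have e4 : ∀ i : Fin m, spIdx (m + 1) (Sum.inr i.castSucc) = miIdx m (Sum.inl (Sum.inr i)) := fun i =>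
    Fin.ext (by rw [spIdx_inr]; show 2 * (m + 1) - 1 - (i : ℕ) = 2 * m + 1 - i; omega)
  rw [e1, e2, E.pLin_mid, E.pLin_mid']
  simp only [e3, e4, E.pLin_other]
  linear_combination -(v (Sum.inr 0) * v (Sum.inr 1)) * E.sum + v (Sum.inr 1) ^ 2 * E.prod

theorem σ_pEquiv (v : (Fin m ⊕ Fin m) ⊕ Fin 2 → K) (k : Fin (2 * (m + 1))) :
    E.σ (E.pEquiv m v k) = E.pEquiv m (fun i => E.σ (v i)) (tau m k) := by
  show E.σ (E.pLin m v k) = E.pLin m (fun i => E.σ (v i)) (tau m k)
  by_cases h0 : k = mid m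
  · subst h0
    rw [tau, Equiv.swap_apply_left, E.pLin_mid', E.pLin_mid, map_sub, map_mul]
  by_cases h1 : k = Fin.rev (mid m)
  · subst h1
    rw [tau, Equiv.swap_apply_right, E.pLin_mid', E.pLin_mid, map_sub, map_mul, E.σσ]
  obtain ⟨i, rfl⟩ := (miIdx m).surjective k
  rcases i with i | z
  · rw [tau, Equiv.swap_apply_of_ne_of_ne h0 h1, E.pLin_other, E.pLin_other]
  · exfalso
    fin_cases z
    · exact h0 (miIdx_zero m)
    · exact h1 (miIdx_one m)

/-- The coordinate change as a matrix. -/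
noncomputable def pMat (E : Ext F K a b) (m : ℕ) : GL (Fin (2 * (m + 1))) K :=
  Matrix.GeneralLinearGroup.toLin.symm ((LinearMap.GeneralLinearGroup.generalLinearEquiv K _).symm
    ((LinearEquiv.funCongrLeft K K (miIdx m)).trans (E.pEquiv m)))

theorem pMat_mulVec (w : Fin (2 * (m + 1)) → K) :
    (E.pMat m : Matrix (Fin (2 * (m + 1))) (Fin (2 * (m + 1))) K) *ᵥ w = E.pEquiv m (w ∘ miIdx m) :=
  LinearMap.toMatrix'_mulVec ((LinearEquiv.funCongrLeft K K (miIdx m)).trans (E.pEquiv m)).toLinearMap w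

/-- Reindexed matrices over the extension. -/
noncomputable def mapGL (E : Ext F K a b) (m : ℕ) :
    GL ((Fin m ⊕ Fin m) ⊕ Fin 2) F →* GL (Fin (2 * (m + 1))) K :=
  (Matrix.GeneralLinearGroup.map E.ι).comp
    (Units.mapEquiv (Matrix.reindexAlgEquiv F F (miIdx m)).toMulEquiv).toMonoidHom

/-- The embedding of the minus type group. -/
noncomputable def psi (E : Ext F K a b) (m : ℕ) :
    GL ((Fin m ⊕ Fin m) ⊕ Fin 2) F →* GL (Fin (2 * (m + 1))) K :=
  (MulAut.conj (E.pMat m)).toMonoidHom.comp (E.mapGL m)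

theorem psi_mulVec (x : GL ((Fin m ⊕ Fin m) ⊕ Fin 2) F) (v : (Fin m ⊕ Fin m) ⊕ Fin 2 → K) :
    (E.psi m x : Matrix (Fin (2 * (m + 1))) (Fin (2 * (m + 1))) K) *ᵥ E.pEquiv m v =
      E.pEquiv m ((x : Matrix _ _ F).map E.ι *ᵥ v) := by
  have hv : E.pEquiv m v =
      (E.pMat m : Matrix (Fin (2 * (m + 1))) (Fin (2 * (m + 1))) K) *ᵥ (v ∘ (miIdx m).symm) := by
    rw [pMat_mulVec, Function.comp_assoc, Equiv.symm_comp_self, Function.comp_id]
  show ((E.pMat m * E.mapGL m x * (E.pMat m)⁻¹ : GL (Fin (2 * (m + 1))) K) :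
    Matrix (Fin (2 * (m + 1))) (Fin (2 * (m + 1))) K) *ᵥ _ = _
  rw [hv, Matrix.mulVec_mulVec, ← Units.val_mul, inv_mul_cancel_right, Units.val_mul,
    ← Matrix.mulVec_mulVec, pMat_mulVec]
  congr 1
  show (((Matrix.reindex (miIdx m) (miIdx m)) (x : Matrix _ _ F)).map E.ι *ᵥ (v ∘ (miIdx m).symm)) ∘
    miIdx m = _
  rw [Matrix.reindex_apply, ← Matrix.submatrix_map, Matrix.submatrix_mulVec_equiv, Equiv.symm_symm,
    Function.comp_assoc, Equiv.symm_comp_self, Function.comp_id, Function.comp_assoc, Equiv.symm_comp_self,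
    Function.comp_id]

theorem psi_injective : Function.Injective (E.psi m) := fun x y h => by
  have h1 := (MulAut.conj (E.pMat m)).injective h
  refine (Units.mapEquiv (Matrix.reindexAlgEquiv F F (miIdx m)).toMulEquiv).injective (Units.ext ?_)
  exact Matrix.map_injective E.ι.injective
    (congrArg Units.val h1)

/-- The twisted Frobenius. -/
noncomputable def theta (E : Ext F K a b) (m : ℕ) :
    GL (Fin (2 * (m + 1))) K →* GL (Fin (2 * (m + 1))) K :=
  (MulAut.conj (tauGL m K)).toMonoidHom.comp (Matrix.GeneralLinearGroup.map E.σ)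

theorem theta_apply (g : GL (Fin (2 * (m + 1))) K) (j k : Fin (2 * (m + 1))) :
    (E.theta m g : Matrix (Fin (2 * (m + 1))) (Fin (2 * (m + 1))) K) j k =
      E.σ ((g : Matrix (Fin (2 * (m + 1))) (Fin (2 * (m + 1))) K) (tau m j) (tau m k)) :=
  tau_conj_apply (Matrix.GeneralLinearGroup.map E.σ g) j k

theorem theta_iff (g : GL (Fin (2 * (m + 1))) K) : E.theta m g = g ↔
    ∀ w k, E.σ (((g : Matrix (Fin (2 * (m + 1))) (Fin (2 * (m + 1))) K) *ᵥ w) k) =
      ((g : Matrix (Fin (2 * (m + 1))) (Fin (2 * (m + 1))) K) *ᵥ fun i => E.σ (w (tau m i))) (tau m k) := by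
  set G := (g : Matrix (Fin (2 * (m + 1))) (Fin (2 * (m + 1))) K)
  constructor
  · intro h w k
    have h' : ∀ j i, E.σ (G (tau m j) (tau m i)) = G j i := fun j i => by
      rw [← E.theta_apply, h]
    simp only [Matrix.mulVec, dotProduct, map_sum, map_mul]
    rw [← Equiv.sum_comp (tau m)]
    refine Finset.sum_congr rfl fun i _ => ?_
    rw [← h' (tau m k) i, tau_tau_apply]
  · intro h
    refine Units.ext (Matrix.ext fun j i => ?_)
    rw [E.theta_apply]
    have := h (Pi.single (tau m i) 1) (tau m j)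
    rw [Matrix.mulVec_single_one] at this
    rw [tau_tau_apply] at this
    rw [show (fun l => E.σ ((Pi.single (tau m i) (1 : K) : Fin (2 * (m + 1)) → K) (tau m l))) =
        Pi.single i 1 from funext fun l => by
      by_cases hl : l = i
      · subst hl; simp
      · rw [Pi.single_eq_of_ne hl, Pi.single_eq_of_ne (fun e => hl ((tau m).injective e)), map_zero],
      Matrix.mulVec_single_one] at this
    exact this

theorem theta_psi (x : GL ((Fin m ⊕ Fin m) ⊕ Fin 2) F) : E.theta m (E.psi m x) = E.psi m x := by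
  rw [theta_iff]
  intro w k
  obtain ⟨v, rfl⟩ := (E.pEquiv m).surjective w
  have e : (fun i => E.σ (E.pEquiv m v (tau m i))) = E.pEquiv m (fun i => E.σ (v i)) :=
    funext fun i => by rw [E.σ_pEquiv, tau_tau_apply]
  rw [e, E.psi_mulVec, E.psi_mulVec, E.σ_pEquiv]
  refine congrFun (congrArg (E.pEquiv m) (funext fun i => ?_)) _
  simp [Matrix.mulVec, dotProduct, E.σι]

theorem map_minusQ (u : (Fin m ⊕ Fin m) ⊕ Fin 2 → F) :
    minusQ m (E.ι a) (E.ι b) (E.ι ∘ u) = E.ι (minusQ m a b u) := by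
  simp only [minusQ_coe, Cfsg.quadFormMinus]
  simp

theorem exists_coords (z : K) : ∃ x y : F, E.ι x + E.r * E.ι y = z := by
  have hd : E.σ E.r - E.r ≠ 0 := sub_ne_zero.2 E.ne
  obtain ⟨y, hy⟩ := E.fix ((E.σ z - z) / (E.σ E.r - E.r)) (by
    rw [map_div₀, map_sub, map_sub, E.σσ, E.σσ, ← neg_sub (E.σ z) z, ← neg_sub (E.σ E.r) E.r, neg_div_neg_eq])
  obtain ⟨x, hx⟩ := E.fix (z - E.r * E.ι y) (by
    rw [map_sub, map_mul, E.σι, hy]; field_simp; ring)
  exact ⟨x, y, by rw [hx]; ring⟩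

theorem psi_mem_orth (x : GL ((Fin m ⊕ Fin m) ⊕ Fin 2) F) :
    E.psi m x ∈ orth m K ↔ x ∈ Cfsg.isometryGroup F (Cfsg.quadFormMinus m F a b) := by
  set M := (x : Matrix ((Fin m ⊕ Fin m) ⊕ Fin 2) ((Fin m ⊕ Fin m) ⊕ Fin 2) F) with hM
  set Q := minusQ m a b
  set QK := minusQ m (E.ι a) (E.ι b)
  have hMv : ∀ z, M.map E.ι *ᵥ (E.ι ∘ z) = E.ι ∘ (M *ᵥ z) := fun z =>
    funext fun i => (RingHom.map_mulVec E.ι M z i).symm
  rw [mem_orth]
  constructor
  · intro h u _
    refine E.ι.injective ?_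
    have := h (E.pEquiv m (E.ι ∘ u))
    rw [E.psi_mulVec, E.oqQ_pEquiv, E.oqQ_pEquiv, ← hM, hMv, E.map_minusQ, E.map_minusQ] at this
    rw [← minusQ_coe]
    exact this
  · intro hx w
    obtain ⟨v, rfl⟩ := (E.pEquiv m).surjective w
    rw [E.psi_mulVec, E.oqQ_pEquiv, E.oqQ_pEquiv, ← hM]
    have hQ : ∀ u, Q (M *ᵥ u) = Q u := fun u => by
      simp only [Q, minusQ_coe]; exact hx u u
    choose xx yy hxy using fun i => E.exists_coords (v i)
    have hpol : ∀ u w, polar QK (E.ι ∘ u) (E.ι ∘ w) = E.ι (polar Q u w) := fun u w => by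
      have : E.ι ∘ u + E.ι ∘ w = E.ι ∘ (u + w) := funext fun i => (map_add E.ι _ _).symm
      simp only [polar, this, QK, Q, E.map_minusQ, map_sub]
    have hp : polar Q (M *ᵥ xx) (M *ᵥ yy) = polar Q xx yy := by
      simp only [polar, ← Matrix.mulVec_add, hQ]
    have hv : v = E.ι ∘ xx + E.r • E.ι ∘ yy := funext fun i => by simp [← hxy i]
    rw [hv, Matrix.mulVec_add, Matrix.mulVec_smul, hMv, hMv]
    have hQK : ∀ u, QK (E.ι ∘ u) = E.ι (Q u) := fun u => E.map_minusQ u
    show QK _ = QK _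
    simp only [QuadraticMap.map_add QK, QuadraticMap.map_smul, polar_smul_right, hpol, hp, hQK, hQ]

theorem exists_psi_eq {g : GL (Fin (2 * (m + 1))) K} (hg : E.theta m g = g) :
    ∃ x, E.psi m x = g := by
  set h : GL (Fin (2 * (m + 1))) K := (E.pMat m)⁻¹ * g * E.pMat m with hh
  set H := (h : Matrix (Fin (2 * (m + 1))) (Fin (2 * (m + 1))) K)
  have hP : ∀ w, (g : Matrix (Fin (2 * (m + 1))) (Fin (2 * (m + 1))) K) *ᵥ E.pEquiv m (w ∘ miIdx m) =
      E.pEquiv m ((H *ᵥ w) ∘ miIdx m) := fun w => by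
    rw [← pMat_mulVec, ← pMat_mulVec, Matrix.mulVec_mulVec, Matrix.mulVec_mulVec, ← Units.val_mul,
      ← Units.val_mul, hh]
    congr 2
    group
  have hσ : ∀ i j, E.σ (H i j) = H i j := by
    intro i j
    have e1 : E.pEquiv m (fun l => E.σ ((H *ᵥ Pi.single j 1) (miIdx m l))) =
        E.pEquiv m ((H *ᵥ Pi.single j 1) ∘ miIdx m) := by
      funext k
      have := (E.theta_iff g).1 hg (E.pEquiv m ((Pi.single j (1 : K)) ∘ miIdx m)) (tau m k)
      rw [hP, E.σ_pEquiv, tau_tau_apply] at this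
      rw [show (fun l => E.σ (E.pEquiv m ((Pi.single j (1 : K)) ∘ miIdx m) (tau m l))) =
          E.pEquiv m ((Pi.single j (1 : K)) ∘ miIdx m) from funext fun l => by
        rw [E.σ_pEquiv, tau_tau_apply]
        refine congrFun (congrArg (E.pEquiv m) (funext fun r => ?_)) _
        simp [Pi.single_apply], hP] at this
      exact this
    have e2 := congrFun ((E.pEquiv m).injective e1) ((miIdx m).symm i)
    simpa [Matrix.mulVec_single_one] using e2
  choose H₀ hH₀ using fun i j => E.fix (H i j) (hσ i j)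
  have hmap : (Matrix.of H₀).map E.ι = H := Matrix.ext hH₀
  have hdet : (Matrix.of H₀).det ≠ 0 := fun e => by
    have h2 := RingHom.map_det E.ι (Matrix.of H₀)
    rw [e, map_zero, RingHom.mapMatrix_apply, hmap] at h2
    exact ((Matrix.isUnit_iff_isUnit_det H).1 (Units.isUnit h)).ne_zero h2.symm
  let y : GL (Fin (2 * (m + 1))) F := Matrix.GeneralLinearGroup.mkOfDetNeZero (Matrix.of H₀) hdet
  obtain ⟨x, hx⟩ := (Units.mapEquiv (Matrix.reindexAlgEquiv F F (miIdx m)).toMulEquiv).surjective y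
  refine ⟨x, ?_⟩
  show E.pMat m * Matrix.GeneralLinearGroup.map E.ι
    ((Units.mapEquiv (Matrix.reindexAlgEquiv F F (miIdx m)).toMulEquiv) x) * (E.pMat m)⁻¹ = g
  rw [hx, show Matrix.GeneralLinearGroup.map E.ι y = h from Units.ext hmap, hh]
  group

/-- The minus type isometries as matrices. -/
noncomputable def minusHom (E : Ext F K a b) (m : ℕ) :
    Cfsg.isometryGroup F (Cfsg.quadFormMinus m F a b) →* GL (Fin (2 * (m + 1))) K :=
  (E.psi m).comp (Cfsg.isometryGroup F (Cfsg.quadFormMinus m F a b)).subtype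

theorem minusHom_injective : Function.Injective (E.minusHom m) := fun _ _ h =>
  Subtype.ext (E.psi_injective h)

theorem mem_range_iff {g : GL (Fin (2 * (m + 1))) K} :
    g ∈ (E.minusHom m).range ↔ g ∈ orth m K ∧ E.theta m g = g := by
  constructor
  · rintro ⟨x, rfl⟩
    exact ⟨(E.psi_mem_orth x.1).2 x.2, E.theta_psi x.1⟩
  · rintro ⟨h1, h2⟩
    obtain ⟨x, rfl⟩ := E.exists_psi_eq h2
    exact ⟨⟨x, (E.psi_mem_orth x).1 h1⟩, rfl⟩

theorem map_mem_orth {g : GL (Fin (2 * (m + 1))) K} (hg : g ∈ orth m K) :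
    Matrix.GeneralLinearGroup.map E.σ g ∈ orth m K := by
  refine mem_orth.2 fun v => ?_
  have hoq : ∀ w : Fin (2 * (m + 1)) → K, oqQ m K (E.σ ∘ w) = E.σ (oqQ m K w) := fun w => by
    simp [oqQ_apply]
  have hv : v = E.σ ∘ (E.σ ∘ v) := funext fun i => (E.σσ _).symm
  have e : ((Matrix.GeneralLinearGroup.map E.σ g : GL (Fin (2 * (m + 1))) K) :
      Matrix (Fin (2 * (m + 1))) (Fin (2 * (m + 1))) K) *ᵥ v =
      E.σ ∘ ((g : Matrix (Fin (2 * (m + 1))) (Fin (2 * (m + 1))) K) *ᵥ (E.σ ∘ v)) := by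
    conv_lhs => rw [hv]
    funext i
    exact (RingHom.map_mulVec E.σ _ _ i).symm
  rw [e, hoq, mem_orth.1 hg, ← hoq, ← hv]

theorem theta_pres : Pres (E.theta m) (orth m K) where
  uni g hg hU := tau_conj_unitri (E.map_mem_orth hg)
    ⟨fun i j h => by
      show E.σ _ = 0
      rw [upper_apply hU.1 (show j < i from h), map_zero], fun i => by
      show E.σ _ = 1
      rw [hU.2, map_one]⟩
  low g hg hL := tau_conj_lower (E.map_mem_orth hg) (mem_lowerTri.2 fun i j h => by
    show E.σ _ = 0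
    rw [mem_lowerTri.1 hL i j h, map_zero])
  mono t π _ := by
    refine ⟨fun i => Units.map E.σ.toMonoidHom (t (tau m i)), tau m * π * tau m, Units.ext (Matrix.ext fun j k => ?_)⟩
    rw [E.theta_apply, monoGL_apply, monoGL_apply]
    by_cases h : π (tau m k) = tau m j
    · rw [if_pos h, if_pos (show (tau m * π * tau m) k = j by
        simp only [Equiv.Perm.mul_apply, h, tau_tau_apply])]
      rfl
    · rw [if_neg h, if_neg (fun e : (tau m * π * tau m) k = j => h (by
        rw [← e]; simp only [Equiv.Perm.mul_apply, tau_tau_apply])), map_zero]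

theorem theta_mono_comm {t : Fin (2 * (m + 1)) → Kˣ} {π : Equiv.Perm (Fin (2 * (m + 1)))}
    (h : E.theta m (monoGL t π) = monoGL t π) (j : Fin (2 * (m + 1))) : π (tau m j) = tau m (π j) := by
  by_contra hne
  have e := congrArg (fun g : GL (Fin (2 * (m + 1))) K =>
    (g : Matrix (Fin (2 * (m + 1))) (Fin (2 * (m + 1))) K) (π j) j) h
  simp only [E.theta_apply, monoGL_apply, if_true] at e
  rw [if_neg hne, map_zero] at e
  exact (t _).ne_zero e.symm

theorem theta_perm {π : Equiv.Perm (Fin (2 * (m + 1)))} (hπ : ∀ j, π (tau m j) = tau m (π j)) :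
    E.theta m (monoGL 1 π) = monoGL 1 π := by
  refine Units.ext (Matrix.ext fun j k => ?_)
  rw [E.theta_apply, monoGL_apply, monoGL_apply, hπ]
  by_cases h : π k = j
  · rw [if_pos h, if_pos (by rw [h])]; simp
  · rw [if_neg h, if_neg (fun e => h ((tau m).injective e)), map_zero]

end Ext

end CfsgLib.StGen
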