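import Cfsg.Agent.Pronormal.EvenUnitary

/-!
# Fixed points of endomorphisms compatible with the Bruhat decomposition of `GL n`
-/

set_option autoImplicit false
set_option linter.unusedSectionVars false

namespace CfsgLib.StGen

open Matrix CfsgLib.Pronormal
open scoped MatrixGroups

variable {n : ℕ} {F : Type*} [Field F]

/-- An endomorphism compatible with the Bruhat decomposition on a subgroup. -/
structure Pres (θ : GL (Fin n) F →* GL (Fin n) F) (A : Subgroup (GL (Fin n) F)) : Prop where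
  uni : ∀ g ∈ A, g ∈ unitri n F → θ g ∈ unitri n F
  low : ∀ g ∈ A, g ∈ lowerTri n F → θ g ∈ lowerTri n F
  mono : ∀ (t : Fin n → Fˣ) (π : Equiv.Perm (Fin n)), monoGL t π ∈ A →
    ∃ (t' : Fin n → Fˣ) (π' : Equiv.Perm (Fin n)), θ (monoGL t π) = monoGL t' π'

namespace Pres

variable {θ : GL (Fin n) F →* GL (Fin n) F} {A : Subgroup (GL (Fin n) F)} (P : Pres θ A)
include P

theorem split {t : Fin n → Fˣ} {π : Equiv.Perm (Fin n)} {a u : GL (Fin n) F} (ha : a ∈ A)
    (haU : a ∈ unitri n F) (hm : monoGL t π ∈ A) (hu : u ∈ A) (huU : u ∈ unitri n F)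
    (haL : (monoGL t π)⁻¹ * a * monoGL t π ∈ lowerTri n F)
    (h : θ (a * monoGL t π * u) = a * monoGL t π * u) :
    θ a = a ∧ θ (monoGL t π) = monoGL t π ∧ θ u = u := by
  obtain ⟨t', π', hm'⟩ := P.mono t π hm
  set m := monoGL t π
  have haU' := P.uni a ha haU
  have huU' := P.uni u hu huU
  rw [map_mul, map_mul, hm'] at h
  have hx : a⁻¹ * θ a * monoGL t' π' = monoGL t π * (u * (θ u)⁻¹) := by
    rw [← mul_assoc (monoGL t π), eq_mul_inv_iff_mul_eq, mul_assoc a⁻¹, mul_assoc, inv_mul_eq_iff_eq_mul,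
      h, mul_assoc]
  have hmm : monoGL t' π' = m := mono_mul_unique (mul_mem (inv_mem haU) haU')
    (mul_mem huU (inv_mem huU')) hx
  rw [hmm] at hx hm'
  have hL : m⁻¹ * (a⁻¹ * θ a) * m ∈ lowerTri n F := by
    have h1 := P.low _ (mul_mem (mul_mem (inv_mem hm) ha) hm) haL
    rw [map_mul, map_mul, map_inv, hm'] at h1
    have : m⁻¹ * (a⁻¹ * θ a) * m = (m⁻¹ * a * m)⁻¹ * (m⁻¹ * θ a * m) := by group
    rw [this]
    exact mul_mem (inv_mem haL) h1
  have hone : m⁻¹ * (a⁻¹ * θ a) * m = 1 := by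
    refine eq_one_of_unitri_lower ?_ hL
    rw [mul_assoc, hx, inv_mul_cancel_left]
    exact mul_mem huU (inv_mem huU')
  have haf : θ a = a := by
    rw [mul_assoc, inv_mul_eq_one, eq_comm, mul_eq_right, inv_mul_eq_one] at hone
    exact hone.symm
  refine ⟨haf, hm', ?_⟩
  rw [haf, inv_mul_cancel, one_mul, left_eq_mul, mul_inv_eq_one] at hx
  exact hx.symm

theorem factor {t : Fin n → Fˣ} {π : Equiv.Perm (Fin n)} {a c : GL (Fin n) F} (ha : a ∈ A) (hc : c ∈ A)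
    (hm : monoGL t π ∈ A) (hmf : θ (monoGL t π) = monoGL t π)
    (haL : (monoGL t π)⁻¹ * a * monoGL t π ∈ lowerTri n F)
    (hcU : (monoGL t π)⁻¹ * c * monoGL t π ∈ unitri n F)
    (he : θ (a * c) = a * c) : θ a = a ∧ θ c = c := by
  set m := monoGL t π
  have hL : m⁻¹ * θ a * m ∈ lowerTri n F := by
    have := P.low _ (mul_mem (mul_mem (inv_mem hm) ha) hm) haL
    rwa [map_mul, map_mul, map_inv, hmf] at this
  have hU : m⁻¹ * θ c * m ∈ unitri n F := by
    have := P.uni _ (mul_mem (mul_mem (inv_mem hm) hc) hm) hcU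
    rwa [map_mul, map_mul, map_inv, hmf] at this
  rw [map_mul] at he
  have hz : (θ a)⁻¹ * a = θ c * c⁻¹ := by
    rw [eq_mul_inv_iff_mul_eq, mul_assoc, ← he, inv_mul_cancel_left]
  have h1 : m⁻¹ * ((θ a)⁻¹ * a) * m ∈ lowerTri n F := by
    rw [show m⁻¹ * ((θ a)⁻¹ * a) * m = (m⁻¹ * θ a * m)⁻¹ * (m⁻¹ * a * m) by group]
    exact mul_mem (inv_mem hL) haL
  have h2 : m⁻¹ * ((θ a)⁻¹ * a) * m ∈ unitri n F := by
    rw [hz, show m⁻¹ * (θ c * c⁻¹) * m = (m⁻¹ * θ c * m) * (m⁻¹ * c * m)⁻¹ by group]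
    exact mul_mem hU (inv_mem hcU)
  have h3 := eq_one_of_unitri_lower h2 h1
  rw [mul_assoc, inv_mul_eq_one, eq_comm, mul_eq_right, inv_mul_eq_one] at h3
  refine ⟨h3, ?_⟩
  rw [h3] at he
  exact mul_left_cancel he

end Pres

end CfsgLib.StGen
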