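import Cfsg.Agent.StClassical.Symplectic
import Cfsg.Agent.StGen.Split
import Cfsg.Agent.StGen.CombD
import Cfsg.Agent.Quad.PlusLevi

/-!
# The split orthogonal group in antidiagonal coordinates
-/

set_option autoImplicit false
set_option linter.unusedSectionVars false

namespace CfsgLib.StGen

open Matrix QuadraticMap CfsgLib.Pronormal CfsgLib.Unitary CfsgLib.StClassical
open scoped MatrixGroups

variable (m : ℕ) (K : Type*) [Field K]

/-- The hyperbolic form in antidiagonal coordinates. -/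
def oqQ : QuadraticForm K (Fin (2 * (m + 1)) → K) :=
  (CfsgLib.Quad.plusQ (m + 1)).comp (LinearMap.funLeft K K (spIdx (m + 1)))

variable {m K}

theorem rev_left (i : Fin (m + 1)) :
    Fin.rev (spIdx (m + 1) (Sum.inl i)) = spIdx (m + 1) (Sum.inr i) := Fin.ext (by
  rw [Fin.val_rev, spIdx_inl, spIdx_inr]; omega)

theorem rev_right (i : Fin (m + 1)) :
    Fin.rev (spIdx (m + 1) (Sum.inr i)) = spIdx (m + 1) (Sum.inl i) := by
  rw [← rev_left, Fin.rev_rev]

theorem oqQ_apply (v : Fin (2 * (m + 1)) → K) :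
    oqQ m K v = ∑ i : Fin (m + 1), v (spIdx (m + 1) (Sum.inl i)) * v (spIdx (m + 1) (Sum.inr i)) := by
  show CfsgLib.Quad.plusQ (m + 1) _ = _
  rw [CfsgLib.Quad.plusQ_coe]
  rfl

theorem polar_oqQ (v w : Fin (2 * (m + 1)) → K) :
    polar (oqQ m K) v w = ∑ k, v k * w (Fin.rev k) := by
  rw [← (spIdx (m + 1)).sum_comp, Fintype.sum_sum_type]
  simp only [rev_left, rev_right, polar, oqQ_apply, Pi.add_apply]
  rw [← Finset.sum_sub_distrib, ← Finset.sum_sub_distrib, ← Finset.sum_add_distrib]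
  exact Finset.sum_congr rfl fun i _ => by ring

theorem polar_oqQ_mulVec (v w : Fin (2 * (m + 1)) → K) :
    polar (oqQ m K) v w = v ⬝ᵥ ((revGL (2 * (m + 1)) K : GL (Fin (2 * (m + 1))) K) :
      Matrix (Fin (2 * (m + 1))) (Fin (2 * (m + 1))) K) *ᵥ w := by
  rw [polar_oqQ, dotProduct]
  refine Finset.sum_congr rfl fun k _ => ?_
  congr 1
  rw [Matrix.mulVec, dotProduct, Finset.sum_eq_single (Fin.rev k)]
  · simp [revGL_apply]
  · intro b _ hb
    simp [revGL_apply, show ¬ Fin.rev b = k from fun e => hb (by rw [← e, Fin.rev_rev])]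
  · simp

variable (m K)

/-- Matrices in antidiagonal coordinates. -/
noncomputable def orGL : GL (Fin (m + 1) ⊕ Fin (m + 1)) K ≃* GL (Fin (2 * (m + 1))) K :=
  Units.mapEquiv (Matrix.reindexAlgEquiv K K (spIdx (m + 1))).toMulEquiv

/-- The orthogonal group. -/
noncomputable def orth : Subgroup (GL (Fin (2 * (m + 1))) K) :=
  (Cfsg.isometryGroup K (Cfsg.quadFormPlus (m + 1) K)).map (orGL m K).toMonoidHom

variable {m K}

theorem orGL_mulVec (x : GL (Fin (m + 1) ⊕ Fin (m + 1)) K) (v : Fin (2 * (m + 1)) → K) :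
    oqQ m K (((orGL m K x : GL (Fin (2 * (m + 1))) K) : Matrix (Fin (2 * (m + 1))) (Fin (2 * (m + 1))) K) *ᵥ v) =
      Cfsg.quadFormPlus (m + 1) K ((x : Matrix _ _ K) *ᵥ (v ∘ spIdx (m + 1))) := by
  show CfsgLib.Quad.plusQ (m + 1) _ = _
  rw [CfsgLib.Quad.plusQ_coe]
  congr 1
  show (Matrix.reindex (spIdx (m + 1)) (spIdx (m + 1)) (x : Matrix _ _ K) *ᵥ v) ∘ spIdx (m + 1) = _
  rw [Matrix.reindex_apply, Matrix.submatrix_mulVec_equiv, Equiv.symm_symm, Function.comp_assoc,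
    Equiv.symm_comp_self, Function.comp_id]

theorem mem_orth {g : GL (Fin (2 * (m + 1))) K} :
    g ∈ orth m K ↔ ∀ v, oqQ m K ((g : Matrix (Fin (2 * (m + 1))) (Fin (2 * (m + 1))) K) *ᵥ v) = oqQ m K v := by
  obtain ⟨x, rfl⟩ := (orGL m K).surjective g
  have hbase : ∀ v, oqQ m K v = Cfsg.quadFormPlus (m + 1) K (v ∘ spIdx (m + 1)) := fun v => by
    show CfsgLib.Quad.plusQ (m + 1) _ = _
    rw [CfsgLib.Quad.plusQ_coe]
    rfl
  constructor
  · rintro ⟨y, hy, e⟩ v
    obtain rfl := (orGL m K).injective e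
    rw [orGL_mulVec, hbase]
    exact hy (v ∘ spIdx (m + 1)) (v ∘ spIdx (m + 1))
  · intro h
    refine ⟨x, fun v _ => ?_, rfl⟩
    have := h (v ∘ (spIdx (m + 1)).symm)
    rw [orGL_mulVec, hbase, Function.comp_assoc, Equiv.symm_comp_self, Function.comp_id] at this
    exact this

theorem twist_iff_polar (g : GL (Fin (2 * (m + 1))) K) :
    twistJ (RingHom.id K) 1 g = g ↔
      ∀ v w, polar (oqQ m K) ((g : Matrix (Fin (2 * (m + 1))) (Fin (2 * (m + 1))) K) *ᵥ v)
        ((g : Matrix (Fin (2 * (m + 1))) (Fin (2 * (m + 1))) K) *ᵥ w) = polar (oqQ m K) v w := by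
  have hR : gramGL (1 : Fin (2 * (m + 1)) → Kˣ) = revGL (2 * (m + 1)) K := by
    rw [gramGL, map_one, one_mul]
  rw [twistJ_eq_iff, hR]
  set R := ((revGL (2 * (m + 1)) K : GL (Fin (2 * (m + 1))) K) :
    Matrix (Fin (2 * (m + 1))) (Fin (2 * (m + 1))) K) with hRdef
  set G := (g : Matrix (Fin (2 * (m + 1))) (Fin (2 * (m + 1))) K) with hG
  have hadj : adj (RingHom.id K) G = Gᵀ := by ext a b; simp [adj]
  have hRR : R * R = 1 := by
    have e := congrArg (fun x : GL (Fin (2 * (m + 1))) K => (x : Matrix (Fin (2 * (m + 1))) (Fin (2 * (m + 1))) K))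
      (show revGL (2 * (m + 1)) K * revGL (2 * (m + 1)) K = 1 by
        nth_rw 1 [← revGL_inv]; exact inv_mul_cancel _)
    simpa [hRdef] using e
  rw [hadj]
  have e1 : G * R * Gᵀ = R ↔ Gᵀ * R * G = R := by
    constructor
    · intro h
      have h' : (G * R * Gᵀ) * R = 1 := by rw [h, hRR]
      have h'' : (R * Gᵀ * R) * G = 1 := mul_eq_one_comm.1 (by
        calc G * (R * Gᵀ * R) = (G * R * Gᵀ) * R := by simp only [mul_assoc]
          _ = 1 := h')
      calc Gᵀ * R * G = (R * R) * (Gᵀ * R * G) := by rw [hRR, one_mul]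
        _ = R * ((R * Gᵀ * R) * G) := by simp only [mul_assoc]
        _ = R := by rw [h'', mul_one]
    · intro h
      have h' : R * (Gᵀ * R * G) = 1 := by rw [h, hRR]
      have h'' : G * (R * Gᵀ * R) = 1 := mul_eq_one_comm.1 (by
        calc (R * Gᵀ * R) * G = R * (Gᵀ * R * G) := by simp only [mul_assoc]
          _ = 1 := h')
      calc G * R * Gᵀ = (G * R * Gᵀ) * (R * R) := by rw [hRR, mul_one]
        _ = (G * (R * Gᵀ * R)) * R := by simp only [mul_assoc]
        _ = R := by rw [h'', one_mul]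
  rw [e1]
  have key : ∀ v w, polar (oqQ m K) (G *ᵥ v) (G *ᵥ w) = v ⬝ᵥ (Gᵀ * R * G) *ᵥ w := fun v w => by
    rw [polar_oqQ_mulVec, ← hRdef, ← Matrix.mulVec_mulVec, ← Matrix.mulVec_mulVec,
      Matrix.dotProduct_mulVec v Gᵀ, Matrix.vecMul_transpose]
  constructor
  · intro h v w
    rw [key, h, polar_oqQ_mulVec]
  · intro h
    ext a b
    have := h (Pi.single a 1) (Pi.single b 1)
    rw [key, polar_oqQ_mulVec, ← hRdef] at this
    simpa [Matrix.mulVec_single_one, single_dotProduct] using this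

theorem mem_orth_iff {g : GL (Fin (2 * (m + 1))) K} :
    g ∈ orth m K ↔ twistJ (RingHom.id K) 1 g = g ∧
      ∀ j, oqQ m K (fun k => (g : Matrix (Fin (2 * (m + 1))) (Fin (2 * (m + 1))) K) k j) = 0 := by
  set G := (g : Matrix (Fin (2 * (m + 1))) (Fin (2 * (m + 1))) K)
  have hcol : ∀ j, (fun k => G k j) = G *ᵥ Pi.single j 1 := fun j => by
    rw [Matrix.mulVec_single_one]; rfl
  have hsingle : ∀ j, oqQ m K (Pi.single j 1) = 0 := fun j => by
    rw [oqQ_apply]
    refine Finset.sum_eq_zero fun i _ => ?_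
    rw [← rev_left]
    rcases eq_or_ne (spIdx (m + 1) (Sum.inl i)) j with rfl | h
    · have hne : Fin.rev (spIdx (m + 1) (Sum.inl i)) ≠ spIdx (m + 1) (Sum.inl i) := fun e => by
        rw [rev_left] at e; simpa using (spIdx (m + 1)).injective e
      exact mul_eq_zero.2 (Or.inr (Pi.single_eq_of_ne hne _))
    · rw [Pi.single_eq_of_ne h, zero_mul]
  rw [mem_orth]
  constructor
  · intro h
    refine ⟨(twist_iff_polar g).2 fun v w => ?_, fun j => ?_⟩
    · simp only [polar, ← Matrix.mulVec_add, h]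
    · rw [hcol, h, hsingle]
  · rintro ⟨h1, h2⟩ v
    have hp := (twist_iff_polar g).1 h1
    have key : ∀ (s : Finset (Fin (2 * (m + 1)))) (c : Fin (2 * (m + 1)) → K),
        oqQ m K (G *ᵥ ∑ j ∈ s, c j • Pi.single j 1) = oqQ m K (∑ j ∈ s, c j • Pi.single j 1) := by
      intro s c
      induction s using Finset.induction_on with
      | empty => simp
      | insert j s hj ih =>
        rw [Finset.sum_insert hj, Matrix.mulVec_add, QuadraticMap.map_add (oqQ m K),
          QuadraticMap.map_add (oqQ m K), ih, hp, Matrix.mulVec_smul, QuadraticMap.map_smul,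
          QuadraticMap.map_smul, ← hcol, h2, hsingle]
    have e : v = ∑ j, v j • Pi.single j (1 : K) := by
      funext i; simp [Finset.sum_apply, Pi.single_apply]
    rw [e]
    exact key _ _

/-! ### Columns with support on one side -/

theorem oqQ_zero_of_left {v : Fin (2 * (m + 1)) → K} (h : ∀ k : Fin (2 * (m + 1)), m + 1 ≤ (k : ℕ) → v k = 0) :
    oqQ m K v = 0 := by
  rw [oqQ_apply]
  exact Finset.sum_eq_zero fun i _ => by rw [h (spIdx (m + 1) (Sum.inr i)) (by rw [spIdx_inr]; omega), mul_zero]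

theorem oqQ_zero_of_right {v : Fin (2 * (m + 1)) → K} (h : ∀ k : Fin (2 * (m + 1)), (k : ℕ) ≤ m → v k = 0) :
    oqQ m K v = 0 := by
  rw [oqQ_apply]
  exact Finset.sum_eq_zero fun i _ => by rw [h (spIdx (m + 1) (Sum.inl i)) (by rw [spIdx_inl]; omega), zero_mul]

theorem mono_mem_orth {t : Fin (2 * (m + 1)) → Kˣ} {π : Equiv.Perm (Fin (2 * (m + 1)))}
    (h : twistJ (RingHom.id K) 1 (monoGL t π) = monoGL t π) : monoGL t π ∈ orth m K := by
  refine mem_orth_iff.2 ⟨h, fun j => ?_⟩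
  rw [oqQ_apply]
  refine Finset.sum_eq_zero fun i _ => ?_
  simp only [monoGL_apply]
  by_cases h1 : π j = spIdx (m + 1) (Sum.inl i)
  · rw [if_neg (show ¬ π j = spIdx (m + 1) (Sum.inr i) from fun e => by
      simpa using (spIdx (m + 1)).injective (h1.symm.trans e)), mul_zero]
  · rw [if_neg h1, zero_mul]

theorem monoGL_one_fixed {π : Equiv.Perm (Fin (2 * (m + 1)))} (hc : RevComm π) :
    twistJ (RingHom.id K) 1 (monoGL (1 : Fin (2 * (m + 1)) → Kˣ) π) = monoGL 1 π := by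
  refine Units.ext (Matrix.ext fun j k => ?_)
  rw [twistJ_apply, monoGL_inv, monoGL_apply, monoGL_apply]
  have e : (π⁻¹ (Fin.rev j) = Fin.rev k) ↔ (π k = j) := by
    rw [Equiv.Perm.inv_eq_iff_eq, hc, Fin.rev_inj, eq_comm]
  by_cases h : π k = j
  · rw [if_pos h, if_pos (e.2 h)]; simp
  · rw [if_neg h, if_neg (mt e.1 h)]; simp

theorem perm_mem_orth {π : Equiv.Perm (Fin (2 * (m + 1)))} (hc : RevComm π) :
    monoGL (1 : Fin (2 * (m + 1)) → Kˣ) π ∈ orth m K := mono_mem_orth (monoGL_one_fixed hc)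

theorem rev_mem_orth : revGL (2 * (m + 1)) K ∈ orth m K := by
  rw [revGL_eq_mono]; exact perm_mem_orth RevComm.rev_perm

/-! ### The middle entries -/

theorem diag_ne_zero {n : ℕ} {g : GL (Fin n) K} (hg : g ∈ Cfsg.upperTriangularGL n K) (i : Fin n) :
    (g : Matrix (Fin n) (Fin n) K) i i ≠ 0 := fun e => by
  have := upper_mul_diag hg (inv_mem hg) i
  rw [mul_inv_cancel, e, zero_mul] at this
  simp at this

theorem upper_mid {g : GL (Fin (2 * (m + 1))) K} (hg : g ∈ orth m K)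
    (hU : g ∈ Cfsg.upperTriangularGL (2 * (m + 1)) K) :
    (g : Matrix (Fin (2 * (m + 1))) (Fin (2 * (m + 1))) K) (mid m) (Fin.rev (mid m)) = 0 := by
  have h := (mem_orth_iff.1 hg).2 (Fin.rev (mid m))
  rw [oqQ_apply, Finset.sum_eq_single (Fin.last m)] at h
  · have e1 : spIdx (m + 1) (Sum.inl (Fin.last m)) = mid m := Fin.ext rfl
    rw [← rev_left, e1] at h
    exact (mul_eq_zero.1 h).resolve_right (diag_ne_zero hU _)
  · intro i _ hi
    rw [upper_apply hU (i := spIdx (m + 1) (Sum.inr i)), mul_zero]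
    rw [Fin.lt_def, Fin.val_rev, spIdx_inr]
    have : (i : ℕ) ≠ m := fun e => hi (Fin.ext e)
    have := i.isLt
    simp only [mid]
    omega
  · simp

theorem lower_mid {g : GL (Fin (2 * (m + 1))) K} (hg : g ∈ orth m K)
    (hL : g ∈ lowerTri (2 * (m + 1)) K) :
    (g : Matrix (Fin (2 * (m + 1))) (Fin (2 * (m + 1))) K) (Fin.rev (mid m)) (mid m) = 0 := by
  have h := upper_mid (mul_mem (mul_mem (rev_mem_orth (m := m) (K := K)) hg) (inv_mem rev_mem_orth))
    (show revGL (2 * (m + 1)) K * g * (revGL (2 * (m + 1)) K)⁻¹ ∈ Cfsg.upperTriangularGL _ K from hL)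
  rwa [rev_conj_apply, Fin.rev_rev] at h

theorem tau_lt {j k : Fin (2 * (m + 1))} (hjk : j < k) (hne : ¬ (j = mid m ∧ k = Fin.rev (mid m))) :
    tau m j < tau m k := by
  have := j.isLt
  have := k.isLt
  rw [Fin.lt_def] at hjk ⊢
  simp only [Fin.ext_iff, mid, Fin.val_rev] at hne
  rw [tau_apply, tau_apply]
  grind

variable (m K) in
/-- The middle transposition as a matrix. -/
noncomputable def tauGL : GL (Fin (2 * (m + 1))) K := monoGL 1 (tau m)

theorem tau_mem_orth : tauGL m K ∈ orth m K := perm_mem_orth (tau_rev m)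

theorem tau_conj_apply (g : GL (Fin (2 * (m + 1))) K) (j k : Fin (2 * (m + 1))) :
    ((tauGL m K * g * (tauGL m K)⁻¹ : GL (Fin (2 * (m + 1))) K) :
      Matrix (Fin (2 * (m + 1))) (Fin (2 * (m + 1))) K) j k =
      (g : Matrix (Fin (2 * (m + 1))) (Fin (2 * (m + 1))) K) (tau m j) (tau m k) := by
  have := monoGL_conj_apply (1 : Fin (2 * (m + 1)) → Kˣ) (tau m) g (tau m j) (tau m k)
  simpa [tau_tau_apply, tauGL] using this

theorem tau_conj_unitri {g : GL (Fin (2 * (m + 1))) K} (hg : g ∈ orth m K) (hU : g ∈ unitri (2 * (m + 1)) K) :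
    tauGL m K * g * (tauGL m K)⁻¹ ∈ unitri (2 * (m + 1)) K :=
  conj_mem_unitri hU fun j k hjk h0 => tau_lt hjk fun e => h0 (by rw [e.1, e.2]; exact upper_mid hg hU.1)

theorem tau_conj_lower {g : GL (Fin (2 * (m + 1))) K} (hg : g ∈ orth m K) (hL : g ∈ lowerTri (2 * (m + 1)) K) :
    tauGL m K * g * (tauGL m K)⁻¹ ∈ lowerTri (2 * (m + 1)) K := by
  refine mem_lowerTri.2 fun i j hij => ?_
  rw [tau_conj_apply]
  by_cases h : i = mid m ∧ j = Fin.rev (mid m)
  · rw [h.1, h.2]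
    simp only [tau, Equiv.swap_apply_left, Equiv.swap_apply_right]
    exact lower_mid hg hL
  · exact mem_lowerTri.1 hL _ _ (tau_lt hij h)

/-! ### Decomposition -/

theorem lu_mem {g L U : GL (Fin (2 * (m + 1))) K} (hg : g ∈ orth m K) (hL : L ∈ lowerTri (2 * (m + 1)) K)
    (hU : U ∈ Cfsg.upperTriangularGL (2 * (m + 1)) K) (hLf : twistJ (RingHom.id K) 1 L = L)
    (he : g = L * U) : L ∈ orth m K ∧ U ∈ orth m K := by
  have hLO : L ∈ orth m K := by
    refine mem_orth_iff.2 ⟨hLf, fun j => ?_⟩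
    by_cases hj : m + 1 ≤ (j : ℕ)
    · exact oqQ_zero_of_right fun k hk => mem_lowerTri.1 hL k j (Fin.lt_def.2 (by omega))
    · have e : (fun k => (L : Matrix (Fin (2 * (m + 1))) (Fin (2 * (m + 1))) K) k j) =
          (g : Matrix (Fin (2 * (m + 1))) (Fin (2 * (m + 1))) K) *ᵥ
            (fun k => ((U⁻¹ : GL (Fin (2 * (m + 1))) K) : Matrix (Fin (2 * (m + 1))) (Fin (2 * (m + 1))) K) k j) := by
        rw [show L = g * U⁻¹ by rw [he, mul_inv_cancel_right]]
        rfl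
      rw [e, mem_orth.1 hg]
      exact oqQ_zero_of_left fun k hk => upper_apply (inv_mem hU) (Fin.lt_def.2 (by omega))
  refine ⟨hLO, ?_⟩
  have : U = L⁻¹ * g := by rw [he, inv_mul_cancel_left]
  rw [this]
  exact mul_mem (inv_mem hLO) hg

theorem twist_pres : Pres (twistJ (RingHom.id K) (1 : Fin (2 * (m + 1)) → Kˣ)) ⊤ where
  uni _ _ h := twistJ_unitri _ _ h
  low _ _ h := twistJ_lower _ _ h
  mono t π _ := twistJ_mono _ _ t π

theorem orth_decomp [Finite K] {g : GL (Fin (2 * (m + 1))) K} (hg : g ∈ orth m K) :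
    ∃ (t : Fin (2 * (m + 1)) → Kˣ) (π : Equiv.Perm (Fin (2 * (m + 1)))) (a u : GL (Fin (2 * (m + 1))) K),
      a ∈ orth m K ∧ a ∈ unitri (2 * (m + 1)) K ∧ u ∈ orth m K ∧ u ∈ unitri (2 * (m + 1)) K ∧
      monoGL t π ∈ orth m K ∧
      (monoGL t π)⁻¹ * a * monoGL t π ∈ lowerTri (2 * (m + 1)) K ∧ g = a * monoGL t π * u := by
  obtain ⟨t, π, a₀, ha₀, u₀, hu₀, rfl⟩ := exists_unitri_bruhat g
  obtain ⟨a, c, ha, haL, hc, hcU, rfl⟩ := exists_factor π t ha₀
  set μ := monoGL t π with hμ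
  set u := μ⁻¹ * c * μ * u₀
  have hu : u ∈ unitri (2 * (m + 1)) K := mul_mem hcU hu₀
  have hg' : a * c * μ * u₀ = a * μ * u := by simp [u, mul_assoc]
  rw [hg'] at hg ⊢
  obtain ⟨haf, hmf, huf⟩ := (twist_pres (m := m) (K := K)).split (Subgroup.mem_top a) ha (Subgroup.mem_top _)
    (Subgroup.mem_top u) hu haL (mem_orth_iff.1 hg).1
  have hmO : μ ∈ orth m K := mono_mem_orth hmf
  obtain ⟨h1, h2⟩ := lu_mem (g := μ⁻¹ * (a * μ * u)) (L := μ⁻¹ * a * μ) (U := u)
    (mul_mem (inv_mem hmO) hg) haL hu.1 (by rw [map_mul, map_mul, map_inv, hmf, haf]) (by group)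
  have haO : a ∈ orth m K := by
    have := mul_mem (mul_mem hmO h1) (inv_mem hmO)
    simpa [mul_assoc] using this
  exact ⟨t, π, a, u, haO, ha, h2, hu, hmO, haL, rfl⟩

theorem orth_factor [Finite K] {t : Fin (2 * (m + 1)) → Kˣ} {π : Equiv.Perm (Fin (2 * (m + 1)))}
    (hm : monoGL t π ∈ orth m K) {b : GL (Fin (2 * (m + 1))) K} (hb : b ∈ orth m K)
    (hbU : b ∈ unitri (2 * (m + 1)) K) :
    ∃ a c : GL (Fin (2 * (m + 1))) K, a ∈ orth m K ∧ a ∈ unitri (2 * (m + 1)) K ∧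
      (monoGL t π)⁻¹ * a * monoGL t π ∈ lowerTri (2 * (m + 1)) K ∧
      c ∈ orth m K ∧ c ∈ unitri (2 * (m + 1)) K ∧
      (monoGL t π)⁻¹ * c * monoGL t π ∈ unitri (2 * (m + 1)) K ∧ b = a * c := by
  obtain ⟨a, c, ha, haL, hc, hcU, rfl⟩ := exists_factor π t hbU
  set μ := monoGL t π
  have hmf := (mem_orth_iff.1 hm).1
  obtain ⟨haf, -⟩ := (twist_pres (m := m) (K := K)).factor (Subgroup.mem_top a) (Subgroup.mem_top c)
    (Subgroup.mem_top _) hmf haL hcU (mem_orth_iff.1 hb).1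
  obtain ⟨h1, h2⟩ := lu_mem (g := μ⁻¹ * (a * c) * μ) (L := μ⁻¹ * a * μ) (U := μ⁻¹ * c * μ)
    (mul_mem (mul_mem (inv_mem hm) hb) hm) haL hcU.1 (by rw [map_mul, map_mul, map_inv, hmf, haf]) (by group)
  have haO : a ∈ orth m K := by
    have := mul_mem (mul_mem hm h1) (inv_mem hm)
    simpa [mul_assoc] using this
  have hcO : c ∈ orth m K := by
    have := mul_mem (mul_mem hm h2) (inv_mem hm)
    simpa [mul_assoc] using this
  exact ⟨a, c, haO, ha, haL, hcO, hc, hcU, rfl⟩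

end CfsgLib.StGen
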